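import Mathlib
import Cfsg.Agent.Lib.WD.Defs2

/-!
# Wreath doubling: calculus with masks on the cocode module
-/

set_option autoImplicit false

namespace CfsgLib.WD.Jk

open Subgroup Cfsg CfsgLib.J4T CfsgLib.Golay CfsgLib.M24E CfsgLib.J4T.Rec
open CfsgLib.J4 (evB even_of_evB)
open scoped Pointwise

variable {L : Type*} [Group L] {z : L} (m : MM z) {a b q : ℕ} {g : M24}

theorem evB_lt (h : evB a = true) : a < 2 ^ 24 := by
  simp only [evB, Bool.and_eq_true, Nat.blt_eq] at h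
  exact h.1

theorem evB_of (h : a < 2 ^ 24) (he : Even (ofMask a).card) : evB a = true := by
  rw [card_ofMask h, Nat.even_iff, ← Nat.and_one_is_mod] at he
  simp only [evB, Bool.and_eq_true, Nat.blt_eq, Nat.beq_eq]
  exact ⟨h, he⟩

theorem evB_xor (ha : evB a = true) (hb : evB b = true) : evB (Nat.xor a b) = true :=
  evB_of (xor_lt (evB_lt ha) (evB_lt hb)) (ofMask_xor a b ▸ ev_sd (even_of_evB ha) (even_of_evB hb))

theorem evB_img {φ : ℕ → ℕ} {g : P24} (r : Rp φ g) (ha : evB a = true) : evB (img φ a) = true :=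
  evB_of (r.img_lt a) (r.ofMask_img a ▸ ev_smul _ (even_of_evB ha))

theorem evB_zero : evB 0 = true := by decide +kernel

/-- the element of `V` given by a mask -/
def cm (a : ℕ) : L := m.c (ofMask a)

theorem cm_mem (ha : evB a = true) : cm m a ∈ m.V := m.c_mem (even_of_evB ha)

theorem cm_zero : cm m 0 = 1 := by rw [cm, ofMask_zero, m.c_empty]

theorem cm_D : cm m 8388609 = m.c {pt 0, pt 23} := by rw [cm, ofMask_D]

theorem cm_xor (ha : evB a = true) (hb : evB b = true) : cm m (Nat.xor a b) = cm m a * cm m b :=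
  (congrArg m.c (ofMask_xor a b)).trans (m.c_mul _ _ (even_of_evB ha) (even_of_evB hb))

theorem cm_img {φ : ℕ → ℕ} (r : Rp φ (g : P24)) (ha : evB a = true) :
    m.κ g * cm m a * (m.κ g)⁻¹ = cm m (img φ a) := by
  rw [cm, m.conj g _ (even_of_evB ha), cm, r.ofMask_img]

theorem cm_nn {φ : ℕ → ℕ} (r : Rp φ (g : P24)) (ha : evB a = true) :
    nn (m.κ g) (cm m a) = cm m (Nat.xor a (img φ a)) := by
  rw [nn, cm_img m r ha, cm_xor m ha (evB_img r ha)]

theorem cm_eq_iff (ha : evB a = true) (hb : evB b = true) : cm m a = cm m b ↔ isCode (Nat.xor a b) = true := by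
  rw [cm, cm, m.c_eq_iff (even_of_evB ha) (even_of_evB hb), ← ofMask_xor,
    ofMask_mem_iff (xor_lt (evB_lt ha) (evB_lt hb))]
  rfl

theorem cm_eq_one (ha : evB a = true) : cm m a = 1 ↔ isCode a = true := by
  rw [← cm_zero m, cm_eq_iff m ha evB_zero]
  exact iff_of_eq (congrArg (isCode · = true) (Nat.xor_zero a))

theorem comm_iff {φ : ℕ → ℕ} (r : Rp φ (g : P24)) (ha : evB a = true) :
    m.κ g * cm m a = cm m a * m.κ g ↔ isCode (Nat.xor a (img φ a)) = true := by
  rw [← cm_eq_iff m ha (evB_img r ha), ← cm_img m r ha, eq_mul_inv_iff_mul_eq, eq_comm]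

/-- a property of all even classes -/
noncomputable def allV (f : ℕ → Bool) : Bool :=
  allLT 4096 fun s => frc (Nat.mul 4096 s) fun k => or (not (evB k)) (f k)

theorem of_allV {f : ℕ → Bool} (h : allV f = true) {x : L} (hx : x ∈ m.V) :
    ∃ k, evB k = true ∧ x = cm m k ∧ f k = true := by
  obtain ⟨a, ha, rfl⟩ := (m.mem_V x).1 hx
  obtain ⟨s, hs, h1, h2⟩ := MM.exists_sy ha
  have h3 := evB_of (hi_lt hs) h1
  have h4 := of_allLT h hs
  rw [frc_eq, show evB (Nat.mul 4096 s) = true from h3] at h4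
  exact ⟨_, h3, (m.c_eq_iff ha h1).2 h2, h4⟩

/-- the classes fixed by `Q` are in `T` -/
noncomputable def fixB (Q T : List ℕ) : Bool :=
  and (and (allL Q isM) (allL T evB)) (allV fun k => or (not (allL Q fun q => isCode (Nat.xor k (img (ap q) k))))
    (anyL T fun t => isCode (Nat.xor k t)))

theorem fix_list {Q T : List ℕ} (h : fixB Q T = true) {x : L} (hx : x ∈ m.V)
    (hQ : ∀ q ∈ Q, ∀ g : M24, Rp (ap q) (g : P24) → m.κ g * x = x * m.κ g) : ∃ t ∈ T, x = cm m t := by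
  simp only [fixB, Bool.and_eq_true, allL_iff] at h
  obtain ⟨k, hk, rfl, h1⟩ := of_allV m h.2 hx
  rw [(allL_iff _ _).2 fun q hq => (comm_iff m (rp_mq (h.1.1 q hq)) hk).1 (hQ q hq _ (rp_mq (h.1.1 q hq)))] at h1
  obtain ⟨t, ht, h2⟩ := (anyL_iff _ _).1 h1
  exact ⟨t, ht, (cm_eq_iff m hk (h.1.2 t ht)).2 h2⟩

theorem cm_sy (ha : evB a = true) : evB (4096 * sy a) = true ∧ cm m (4096 * sy a) = cm m a :=
  have := m.c_sy (evB_lt ha) (even_of_evB ha)
  ⟨evB_of (hi_lt (sy_lt (evB_lt ha))) this.1, this.2.symm⟩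

/-- a move on syndromes: translation by a mask, or a permutation -/
noncomputable def mvS (q s : ℕ) : ℕ :=
  frc (Nat.mul 4096 s) fun k => frc (Bool.rec (img (ap q) k) (Nat.xor q k) (evB q)) sy

/-- the masks in `Q` generate `V` as a module for the permutations in `Q` -/
noncomputable def spanB (Q : List ℕ) : Bool :=
  and (allL Q fun q => or (evB q) (isM q))
    (frc (spin mvS Q 4096 0) fun W => allV fun k => tb W (Nat.shiftRight k 12))

theorem span {Q : List ℕ} (h : spanB Q = true) {N : Subgroup L}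
    (hQ : ∀ q ∈ Q, (evB q = true → cm m q ∈ N) ∧ (evB q = false → ∀ g : M24, Rp (ap q) (g : P24) →
      ∀ x ∈ m.V, x ∈ N → m.κ g * x * (m.κ g)⁻¹ ∈ N)) : m.V ≤ N := fun x hx => by
  simp only [spanB, Bool.and_eq_true, allL_iff, frc_eq] at h
  obtain ⟨a, ha, rfl⟩ := (m.mem_V x).1 hx
  obtain ⟨s, hs, h1, h2⟩ := MM.exists_sy ha
  have h4 := of_allLT h.2 hs
  rw [frc_eq, show evB (Nat.mul 4096 s) = true from evB_of (hi_lt hs) h1] at h4
  beta_reduce at h4
  rw [show Nat.shiftRight (Nat.mul 4096 s) 12 = s from (Nat.shiftRight_eq_div_pow _ _).trans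
      (Nat.mul_div_cancel_left s (by norm_num))] at h4
  rw [(m.c_eq_iff ha h1).2 h2]
  refine (spin_spec (R := fun s => evB (4096 * s) = true ∧ cm m (4096 * s) ∈ N) (fun q hq s hs => ?_)
    ⟨evB_zero, (cm_zero m).symm ▸ one_mem N⟩ _ h4).2
  simp only [mvS, frc_eq]
  cases e : evB q
  · have r := rp_mq (show isM q = true by simpa [e] using h.1 q hq)
    have := cm_sy m (evB_img r hs.1)
    exact ⟨this.1, this.2 ▸ cm_img m r hs.1 ▸ (hQ q hq).2 e _ r _ (cm_mem m hs.1) hs.2⟩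
  · have := cm_sy m (evB_xor e hs.1)
    exact ⟨this.1, this.2 ▸ cm_xor m e hs.1 ▸ mul_mem ((hQ q hq).1 e) hs.2⟩

/-- a subgroup containing `V` and `κ S` -/
theorem M_le {N : Subgroup L} (hV : m.V ≤ N) (h : ∀ g, m.κ g ∈ N) : normalizer (m.V : Set L) ≤ N := fun x hx => by
  obtain ⟨a, ha, g, rfl⟩ := (m.mem_M x).1 hx
  exact mul_mem (hV (m.c_mem ha)) (h g)

theorem mq_qu : mq qu = K.u0 := mq_of_rp K.rp_u

theorem κ_mem_H0 (h0 : (g : P24) (pt 0) = pt 0) (h1 : (g : P24) (pt 23) = pt 23) : m.κ g ∈ H0 m :=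
  subset_closure (.inr ⟨g, h0, h1, rfl⟩)

theorem H0_le {N : Subgroup L} (hV : m.V ≤ N) (hu : m.κ (mq qu) ∈ N) (hr : m.κ (mq qr) ∈ N) : H0 m ≤ N := by
  refine (closure_le _).2 ?_
  rintro _ (h | ⟨g, h0, h1, rfl⟩)
  · exact hV h
  · obtain ⟨_, h, e⟩ := gen_M22 (S := (N.comap m.κ).map M24.subtype) ⟨_, hu, (rp_mq isM_qu).pm_eq.symm⟩
      ⟨_, hr, (rp_mq isM_qr).pm_eq.symm⟩ (mem_DD.2 ⟨g.2, .inl ⟨h0, h1⟩⟩) h0
    exact Subtype.ext e ▸ h

/-- a word in two letters -/
def wd {G : Type*} [Group G] (a b : G) : List Bool → G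
  | [] => 1
  | x :: w => (bif x then a else b) * wd a b w

theorem map_wd {G H : Type*} [Group G] [Group H] (f : G →* H) (a b : G) (w : List Bool) :
    f (wd a b w) = wd (f a) (f b) w := by
  induction w with
  | nil => exact f.map_one
  | cons x w ih => cases x <;> simp [wd, ih]

/-- the translation part of a word -/
noncomputable def wv (s t : ℕ) (w : List Bool) : ℕ :=
  List.rec 0 (fun x _ ih => frc ih fun k => Bool.rec (Nat.xor t (img (ap qr) k)) (Nat.xor s (img (ap qu) k)) x) w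

theorem wd_mk (ha : evB a = true) (hb : evB b = true) (w : List Bool) :
    Rp (ap (evW w)) (wd (mq qu) (mq qr) w : M24) ∧ evB (wv a b w) = true ∧
      wd (cm m a * m.κ (mq qu)) (cm m b * m.κ (mq qr)) w = cm m (wv a b w) * m.κ (wd (mq qu) (mq qr) w) := by
  induction w with
  | nil => exact ⟨rp_idq, evB_zero, by simp [wd, show wv a b [] = 0 from rfl, cm_zero]⟩
  | cons x w ih =>
    have k : ∀ {s q : ℕ}, evB s = true → isM q = true → Rp (ap (frc (evW w) (M24E.cmp q))) (mq q * wd (mq qu) (mq qr) w : M24)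
        ∧ evB (Nat.xor s (img (ap q) (wv a b w))) = true ∧ cm m s * m.κ (mq q) *
          wd (cm m a * m.κ (mq qu)) (cm m b * m.κ (mq qr)) w = cm m (Nat.xor s (img (ap q) (wv a b w))) *
            m.κ (mq q * wd (mq qu) (mq qr) w) := fun hs hq => by
      have e := evB_img (rp_mq hq) ih.2.1
      refine ⟨frc_eq _ (M24E.cmp _) ▸ (rp_mq hq).cmp ih.1, evB_xor hs e, ?_⟩
      rw [ih.2.2, cm_xor m hs e, ← cm_img m (rp_mq hq) ih.2.1, map_mul]
      group
    have e : wv a b (x :: w) = frc (wv a b w) fun k => Bool.rec (Nat.xor b (img (ap qr) k)) (Nat.xor a (img (ap qu) k)) x := rfl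
    rw [e, frc_eq]
    cases x
    exacts [k hb isM_qr, k ha isM_qu]

end CfsgLib.WD.Jk
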