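import Mathlib
import Cfsg.Agent.Lib.WD.Jk0

/-!
# Wreath doubling: fixed points and cohomology on the cocode module
-/

set_option autoImplicit false
set_option linter.unusedSectionVars false
set_option linter.unusedVariables false

namespace CfsgLib.WD

open Subgroup Cfsg CfsgLib.Tech CfsgLib.StdInt CfsgLib.J4T CfsgLib.Golay CfsgLib.M24E
open scoped Pointwise

variable {L : Type*} [Group L] [Finite L] {z : L} {j : JM z}

namespace Jk

open CfsgLib.J4T.Rec
open CfsgLib.J4 (evB)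

omit [Finite L]
variable (m : MM z)

theorem qu_mem : m.κ (mq qu) ∈ H0 m := κ_mem_H0 m ((rp_mq isM_qu).pt_eq (by norm_num)) ((rp_mq isM_qu).pt_eq (by norm_num))

theorem qr_mem : m.κ (mq qr) ∈ H0 m := κ_mem_H0 m ((rp_mq isM_qr).pt_eq (by norm_num)) ((rp_mq isM_qr).pt_eq (by norm_num))

theorem H0_le_M : H0 m ≤ normalizer (m.V : Set L) := H0_le m le_normalizer (m.κ_mem_M _) (m.κ_mem_M _)

theorem fix_qu {a : L} (ha : a ∈ m.V) (h : m.κ (mq qu) * a = a * m.κ (mq qu)) : a = 1 ∨ a = m.c {pt 0, pt 23} := by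
  simpa [cm_zero, cm_D] using fix_list m (Q := [qu]) (T := [0, 8388609]) (by decide +kernel) ha fun q hq g r => by
    rwa [← mq_of_rp r, List.mem_singleton.1 hq]

theorem range_le {K : Type*} [Group K] (h : commutator K = ⊤) (f : K →* L) {H : Subgroup L} (hf : ∀ k, f k ∈ H)
    (k : K) : f k ∈ ⁅H, H⁆ := by
  have e : map f ⊤ ≤ H := by rintro _ ⟨k, -, rfl⟩; exact hf k
  exact commutator_mono e e (map_commutator ⊤ ⊤ f ▸ mem_map_of_mem f (h.ge (mem_top k)))

theorem perf_H0 : H0 m ≤ ⁅H0 m, H0 m⁆ := by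
  have k : ∀ g : M24, m.κ g ∈ H0 m → (g : P24) ∈ Spor.M22 → m.κ g ∈ ⁅H0 m, H0 m⁆ := fun g _ hg =>
    range_le perfect_M22 (m.κ.comp (inclusion fun _ h => DD_le (mem_M22.1 h).1))
      (fun k => κ_mem_H0 m (mem_M22.1 k.2).2 (DD_fix23 (mem_M22.1 k.2).1 (mem_M22.1 k.2).2)) ⟨g, hg⟩
  have k' : ∀ {q}, isM q = true → ap q 0 = 0 → ap q 23 = 23 → m.κ (mq q) ∈ ⁅H0 m, H0 m⁆ := fun h h0 h1 =>
    have e0 := ((rp_mq h).pt_eq_iff (by norm_num) (by norm_num)).2 h0
    have e1 := ((rp_mq h).pt_eq_iff (by norm_num) (by norm_num)).2 h1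
    k _ (κ_mem_H0 m e0 e1) (mem_M22.2 ⟨mem_DD.2 ⟨(mq _).2, .inl ⟨e0, e1⟩⟩, e0⟩)
  have hu := k' isM_qu rfl rfl
  have hr := k' isM_qr rfl rfl
  refine H0_le m (span m (Q := [Nat.xor 3 (img (ap qu) 3), qu, qr]) (by decide +kernel) fun q hq => ?_) hu hr
  simp only [List.mem_cons, List.not_mem_nil, or_false] at hq
  rcases hq with rfl | rfl | rfl
  · refine ⟨fun _ => ?_, fun h => absurd h (by decide +kernel)⟩
    have h3 : evB 3 = true := by decide +kernel
    have := commutator_mem_commutator (H₁ := H0 m) (subset_closure (.inl (cm_mem m h3))) (qu_mem m)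
    rw [commutatorElement_def, inv_eq_of_mul_eq_one_right (m.V_sq (cm_mem m h3))] at this
    rw [← cm_nn m (rp_mq isM_qu) h3, nn]
    simpa only [mul_assoc] using this
  all_goals exact ⟨fun h => absurd h (by decide +kernel), fun _ g r x _ hx =>
    mq_of_rp r ▸ mul_mem (mul_mem ‹_› hx) (inv_mem ‹_›)⟩

theorem wv_rep (s t n : ℕ) : wv s t (List.replicate n true) = wv s 0 (List.replicate n true) := by
  induction n with
  | zero => rfl
  | succ n ih => exact congrArg (frc · fun k => Nat.xor s (img (ap qu) k)) ih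

theorem coc (c : L → L) (h1 : ∀ h ∈ H0 m, c h ∈ m.V)
    (h2 : ∀ h ∈ H0 m, ∀ h' ∈ H0 m, c (h * h') = c h * (h * c h' * h⁻¹)) (h3 : ∀ a ∈ m.V, c a = 1) :
    ∃ f ∈ m.V, ∀ h ∈ H0 m, c h = nn h f := by
  let φ : H0 m →* L := MonoidHom.mk' (fun h => c h * h) fun a b => by
    rw [coe_mul, h2 _ a.2 _ b.2]; group
  have rel : ∀ (φ : H0 m →* L) {a b}, evB a = true → evB b = true → φ ⟨_, qu_mem m⟩ = cm m a * m.κ (mq qu) →
      φ ⟨_, qr_mem m⟩ = cm m b * m.κ (mq qr) → ∀ w, Nat.beq (evW w) idq = true → isCode (wv a b w) = true := by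
    intro φ a b ha hb e1 e2 w hw
    obtain ⟨k1, k2, k3⟩ := wd_mk m ha hb w
    have k4 : wd (mq qu) (mq qr) w = 1 := Subtype.ext (k1.unique (beq_iff'.1 hw ▸ rp_idq))
    have k5 : wd (⟨_, qu_mem m⟩ : H0 m) ⟨_, qr_mem m⟩ w = 1 := Subtype.ext ((map_wd (H0 m).subtype _ _ w).trans
      ((map_wd m.κ _ _ w).symm.trans (k4 ▸ m.κ.map_one)))
    rw [← e1, ← e2, ← map_wd, k5, map_one, k4, map_one, mul_one] at k3
    exact (cm_eq_one m k2).1 k3.symm
  obtain ⟨s, hs, e1, k1⟩ := of_allV m (f := fun s => or (not (isCode (wv s 0 (List.replicate 11 true))))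
    (frc (wv s 0 (List.replicate 1 true)) fun a => frc (Nat.xor (Nat.xor (Nat.xor (img (ap qu) a) (img (itF (ap qu) 3) a))
      (Nat.xor (img (itF (ap qu) 5) a) (img (itF (ap qu) 7) a))) (img (itF (ap qu) 9) a)) fun f =>
        and (evB f) (isCode (Nat.xor s (Nat.xor f (img (ap qu) f)))))) (by decide +kernel) (h1 _ (qu_mem m))
  obtain ⟨t, ht, e2, -⟩ := of_allV m (f := fun _ => true) (by decide +kernel) (h1 _ (qr_mem m))
  rw [← wv_rep s t, rel φ hs ht (congrArg (· * _) e1) (congrArg (· * _) e2) _ (by decide +kernel)] at k1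
  simp only [frc_eq, Bool.not_true, Bool.false_or, Bool.and_eq_true] at k1
  generalize Nat.xor (Nat.xor _ _) (img _ _) = f at k1
  have hf := cm_mem m k1.1
  have ff := inv_eq_of_mul_eq_one_right (m.V_sq hf)
  rw [← cm_eq_iff m hs (evB_xor k1.1 (evB_img (rp_mq isM_qu) k1.1)), ← cm_nn m (rp_mq isM_qu) k1.1, ← e1] at k1
  let ψ := (MulAut.conj (cm m f)⁻¹).toMonoidHom.comp φ
  have hψ : ∀ h, ψ h = (cm m f)⁻¹ * (c h * h) * (cm m f)⁻¹⁻¹ := fun _ => rfl
  have e3 : ψ ⟨_, qu_mem m⟩ = m.κ (mq qu) := by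
    rw [hψ, k1.2, nn, inv_inv]
    simp [mul_assoc, m.V_sq hf]
  obtain ⟨t, ht, e4, k2⟩ := of_allV m (f := fun t => or (not (allL [[true, false, false, true, false, false, true,
    false, false], List.replicate 4 false, (List.replicate 7 [true, false]).flatten,
    (List.replicate 7 [true, true, false]).flatten] fun w => isCode (wv 0 t w))) (isCode t)) (by decide +kernel)
    (mul_mem (mul_mem (inv_mem hf) (h1 _ (qr_mem m))) (conj_mem_of_mem_normalizer (m.κ_mem_M (mq qr)) hf))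
  have e5 : ψ ⟨_, qr_mem m⟩ = cm m t * m.κ (mq qr) := by rw [hψ, ← e4]; group
  rw [(allL_iff _ _).2 fun w hw => rel ψ evB_zero ht (by rw [e3, cm_zero, one_mul]) e5 w
    ((allL_iff _ fun w => Nat.beq (evW w) idq).1 (by decide +kernel) w hw)] at k2
  rw [(cm_eq_one m ht).2 k2, one_mul] at e5
  refine ⟨_, hf, fun h hh => ?_⟩
  obtain ⟨h, e, rfl⟩ := H0_le m (N := (ψ.eqLocus (H0 m).subtype).map (H0 m).subtype) (fun a ha =>
    ⟨⟨a, subset_closure (.inl ha)⟩, show ψ _ = a by rw [hψ, h3 a ha, one_mul, m.V_comm (inv_mem hf) ha]; group, rfl⟩)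
    ⟨_, e3, rfl⟩ ⟨_, e5, rfl⟩ hh
  replace e : _ = (h : L) := (hψ h).symm.trans e
  calc c h = cm m f * ((cm m f)⁻¹ * (c h * h) * (cm m f)⁻¹⁻¹ * (cm m f)⁻¹ * (h : L)⁻¹) := by group
    _ = _ := by rw [e, ff]; rfl

end Jk

open Jk J4T.Rec

theorem j_ea (hj : j.Good) : EA j.V :=
  ⟨fun _ => j.toMM.V_sq, fun l h => hj.V_eq ▸ hj.wc.cent fun a ha => (h a (hj.V_eq ▸ ha)).symm⟩

theorem j_kh (hj : j.Good) : KH j.V (H0 j.toMM) (j.c {pt 0, pt 23}) where
  dF := j.toMM.c_mem (ev_two (Finset.card_pair pt0_ne))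
  dne := j.toMM.c_ne_one (ev_two (Finset.card_pair pt0_ne)) (by simp) (by rw [Finset.card_pair pt0_ne]; norm_num)
  le := H0_le_M _
  FH := fun _ h => subset_closure (.inl h)
  cd := fun h hh => mem_centralizer_singleton_iff.1 (H0_le j.toMM (N := centralizer {j.c {pt 0, pt 23}})
    (fun a ha => mem_centralizer_singleton_iff.2
      (j.toMM.V_comm ha (j.toMM.c_mem (ev_two (Finset.card_pair pt0_ne)))))
    (mem_centralizer_singleton_iff.2 (cm_D j.toMM ▸ (comm_iff _ (rp_mq isM_qu) (by decide +kernel)).2 (by decide +kernel)))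
    (mem_centralizer_singleton_iff.2 (cm_D j.toMM ▸ (comm_iff _ (rp_mq isM_qr) (by decide +kernel)).2 (by decide +kernel)))
    hh)
  perf := le_antisymm (commutator_le.2 fun _ ha _ hb => mul_mem (mul_mem (mul_mem ha hb) (inv_mem ha)) (inv_mem hb))
    (perf_H0 _)
  fix := fun _ ha h => fix_qu _ ha (h _ (qu_mem _))
  coc := coc _

omit [Finite L] in
theorem j_fix3 (m : MM z) {a : L} (ha : a ∈ m.V)
    (h : ∀ g : M24, (g : P24) (pt 0) = pt 0 → (g : P24) (pt 23) = pt 23 → (g : P24) (pt 1) = pt 1 →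
      m.κ g * a = a * m.κ g) :
    a = 1 ∨ a = m.c {pt 0, pt 23} ∨ a = m.c {pt 23, pt 1} ∨ a = m.c {pt 0, pt 1} := by
  have e1 : ofMask 8388610 = {pt 23, pt 1} := by decide +kernel
  have e2 : ofMask 3 = {pt 0, pt 1} := by decide +kernel
  have := fix_list m (Q := [0xb944ca410b8daa3390d27aa6d72420, 0xbd4913d18974db2b0c467a20b51420])
    (T := [0, 8388609, 8388610, 3]) (by decide +kernel) ha fun q hq g r => by
      simp only [List.mem_cons, List.not_mem_nil, or_false] at hq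
      rcases hq with rfl | rfl <;> exact h g (r.pt_eq (by norm_num)) (r.pt_eq (by norm_num)) (r.pt_eq (by norm_num))
  simpa [cm, ofMask_zero, m.c_empty, ofMask_D, e1, e2] using this

omit [Finite L] in
/-- `53 = {0, 2, 4, 5}` and `8391744 = {6, 10, 11, 23}` are the halves of `o0` -/
theorem j_fixT (m : MM z) {a : L} (ha : a ∈ m.V)
    (h : ∀ g : M24, (g : P24) • ofMask 53 = ofMask 53 → (g : P24) • ofMask 8391744 = ofMask 8391744 →
      m.κ g * a = a * m.κ g) : a = 1 ∨ a = m.c (ofMask 53) := by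
  have := fix_list m (Q := [0x5c5b0926d461dcf51823adc0541262, 0xbd90373653a42295a8e161844782a5])
    (T := [0, 53]) (by decide +kernel) ha fun q hq g r => by
      simp only [List.mem_cons, List.not_mem_nil, or_false] at hq
      rcases hq with rfl | rfl <;>
        exact h g ((r.setFix_iff _).1 (by decide +kernel)) ((r.setFix_iff _).1 (by decide +kernel))
  simpa [cm, ofMask_zero, m.c_empty] using this

omit [Finite L] in
theorem j_fixO (m : MM z) {a : L} (ha : a ∈ m.V)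
    (h : ∀ g : M24, (g : P24) • ofMask o0 = ofMask o0 → m.κ g * a = a * m.κ g) : a = 1 := by
  have := fix_list m (Q := [0x2131a58f584a6d2906e088cb629f7, 0xbd1c7b46a30bd33329ac4100b81642])
    (T := [0]) (by decide +kernel) ha fun q hq g r => by
      simp only [List.mem_cons, List.not_mem_nil, or_false] at hq
      rcases hq with rfl | rfl <;> exact h g ((r.setFix_iff _).1 (by decide +kernel))
  simpa [cm_zero] using this

theorem j_perf (hj : j.Good) :
    ⁅normalizer (j.V : Set L), normalizer (j.V : Set L)⁆ = normalizer (j.V : Set L) := by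
  have k := j_kh hj
  refine le_antisymm (commutator_le.2 fun _ ha _ hb => mul_mem (mul_mem (mul_mem ha hb) (inv_mem ha)) (inv_mem hb))
    (M_le j.toMM ((k.FH.trans k.perf.ge).trans (commutator_mono k.le k.le)) (range_le ?_ _ j.toMM.κ_mem_M))
  have := Mathieu.simple_M24
  refine (IsSimpleGroup.eq_bot_or_eq_top_of_normal _ inferInstance).resolve_left fun h => ?_
  rw [commutator_eq_bot_iff_center_eq_top] at h
  exact absurd (((rp_mq isM_qu).intw_iff (rp_mq isM_qr) (rp_mq isM_qr)).2 (congrArg Subtype.val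
    (mem_center_iff.1 (h.ge (mem_top (mq qr))) (mq qu)))) (by decide +kernel)

theorem j_fpf (hj : j.Good) : ∃ x ∈ normalizer (j.V : Set L), ∀ a ∈ j.V, x * a = a * x → a = 1 :=
  ⟨_, j.toMM.κ_mem_M (mq 0x750b548cc27c4f6bb00122a6883572), fun a ha h => by
    simpa [cm_zero] using fix_list j.toMM (Q := [0x750b548cc27c4f6bb00122a6883572]) (T := [0]) (by decide +kernel) ha
      fun q hq g r => by rwa [← mq_of_rp r, List.mem_singleton.1 hq]⟩

theorem j_cj11 (hj : j.Good) : ∃ u ∈ normalizer (j.V : Set L), u ^ 11 = 1 ∧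
    (∀ x ∈ j.V, u * x = x * u ↔ x = 1 ∨ x = j.c {pt 0, pt 23}) ∧
    ∀ m ∈ normalizer (j.V : Set L), m ^ 11 = 1 → m ≠ 1 → ∃ c ∈ normalizer (j.V : Set L), c * u * c⁻¹ = m := by
  classical
  have : Fact (Nat.Prime 11) := ⟨by norm_num⟩
  refine ⟨K.uu j.toMM, K.uu_M _, K.uu_pow _, fun x hx => ⟨fun h => fix_qu _ hx (mq_qu ▸ h), ?_⟩, fun m hm h1 h2 => ?_⟩
  · rintro (rfl | rfl)
    exacts [by simp, ofMask_D ▸ K.uu_tt _]
  have cu := (Nat.card_zpowers _).trans (K.ord_uu j.toMM)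
  have hS : IsSylowIn 11 (zpowers (K.uu j.toMM)) (normalizer (j.V : Set L)) := ⟨zpowers_le.2 (K.uu_M _),
    .of_card (n := 1) cu, fun h => by
      have := card_mul_relIndex' (zpowers_le.2 (K.uu_M j.toMM))
      rw [cu, K.card_M _ (hj.V_eq ▸ hj.wc.card)] at this
      omega⟩
  obtain ⟨g, hg, e⟩ := hS.exists_cj_le (isPGroup_zpowers_of_pow (k := 1) h1) (zpowers_le.2 hm)
  obtain ⟨i, hi, e⟩ := Finset.mem_image.1 (mem_zpowers_iff_mem_range_orderOf.1
    (cj_le_iff.1 e m (mem_zpowers m)))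
  rw [K.ord_uu, Finset.mem_range] at hi
  obtain ⟨a, b, e'⟩ : ∃ a b, 10 ^ a * 3 ^ b ≡ i [MOD 11] := by
    have : i ≠ 0 := by rintro rfl; exact h2 (by simpa using e.symm)
    obtain ⟨a, -, b, -, h⟩ := (by decide : ∀ i < 11, i ≠ 0 → ∃ a < 2, ∃ b < 5, 10 ^ a * 3 ^ b ≡ i [MOD 11]) i hi this
    exact ⟨a, b, h⟩
  refine ⟨g⁻¹ * (j.κ K.b0 ^ a * j.κ K.f0 ^ b), mul_mem (inv_mem hg) (mul_mem (pow_mem (j.toMM.κ_mem_M _) _)
    (pow_mem (j.toMM.κ_mem_M _) _)), ?_⟩
  rw [← K.ord_uu j.toMM, ← pow_eq_pow_iff_modEq, pow_mul, ← K.conj_pow_pow (K.b0_uu _), conj_pow,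
    ← K.conj_pow_pow (K.f0_uu _), e] at e'
  calc _ = g⁻¹ * (g * m * g⁻¹) * g := by rw [← e']; group
    _ = m := by group

end CfsgLib.WD
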