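import Mathlib
import Cfsg.Agent.Lib.WD.JkA

/-!
# Wreath doubling: the involution `κ GB` of `V : M24`
-/

set_option autoImplicit false
set_option linter.unusedSectionVars false
set_option linter.unusedVariables false

namespace CfsgLib.WD

open Subgroup Cfsg CfsgLib.Tech CfsgLib.StdInt CfsgLib.J4T CfsgLib.Golay CfsgLib.M24E
open scoped Pointwise

variable {L : Type*} [Group L] [Finite L] {z : L} {j : JM z}

namespace Jk

open CfsgLib.J4T.Rec
open CfsgLib.J4 (evB)

omit [Finite L]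
variable (m : MM z)

theorem rp_GB : Rp (ap gB) (GB : P24) := pm_rp isM_gB

theorem GB_ne : GB ≠ 1 := fun h => absurd (rp_GB.isId_iff.2 (congrArg Subtype.val h)) (by decide +kernel)

theorem GB_sq : GB * GB = 1 := Subtype.ext ((rp_GB.mul rp_GB).isId_iff.1 (by decide +kernel))

theorem comm_GB {q : ℕ} {g : M24} (r : Rp (ap q) (g : P24)) (h : intw (ap q) (ap gB) (ap gB) = true) :
    m.κ g * m.κ GB = m.κ GB * m.κ g := by
  rw [← map_mul, ← map_mul]
  exact congrArg _ (Subtype.ext ((r.intw_iff rp_GB rp_GB).1 h))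

theorem closure_conj {S : Set L} {k : L} (h : ∀ x ∈ S, k * x * k⁻¹ ∈ S) {x : L} (hx : x ∈ closure S) :
    k * x * k⁻¹ ∈ closure S :=
  (closure_le ((closure S).comap (MulAut.conj k).toMonoidHom)).2 (fun y hy => subset_closure (h y hy)) hx

theorem span_GB {a : ℕ} {S : Set L} (h : spanB [a, 0x1d6c662404509686c2479d02f895d7, 0x4898ab9cce2d8881c0319816f6d255] = true)
    (ha : evB a = true) (h1 : cm m a ∈ S) (h2 : ∀ k ∈ normalizer (m.V : Set L), k * m.κ GB = m.κ GB * k →
      ∀ x ∈ S, k * x * k⁻¹ ∈ S) : m.V ≤ closure S := span m h fun q hq => by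
  simp only [List.mem_cons, List.not_mem_nil, or_false] at hq
  rcases hq with rfl | rfl | rfl
  · exact ⟨fun _ => subset_closure h1, fun h => by simp [ha] at h⟩
  all_goals exact ⟨fun h => absurd h (by decide +kernel), fun _ g r x _ hx =>
    closure_conj (h2 _ (m.κ_mem_M g) (comm_GB m r (by decide +kernel))) hx⟩

theorem noq : NoQ m.V (m.κ GB) := by
  have r := rp_mq (show isM 0x1d6c662404509686c2479d02f895d7 = true by decide +kernel)
  have e : evB 17 = true := by decide +kernel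
  refine span_GB m (a := Nat.xor 17 (img (ap 0x1d6c662404509686c2479d02f895d7) 17)) (by decide +kernel)
    (by decide +kernel) ⟨_, cm_mem m e, _, m.κ_mem_M _, comm_GB m r (by decide +kernel), (cm_nn m r e).symm⟩ ?_
  rintro k hk ky _ ⟨a, ha, c, hc, cy, rfl⟩
  exact ⟨_, conj_mem_of_mem_normalizer hk ha, k * c * k⁻¹, mul_mem (mul_mem hk hc) (inv_mem hk),
    comm_mul (comm_mul ky cy) (comm_inv ky), by group⟩

theorem cyc : Cyc m.V (m.κ GB) (cm m 17) := by
  have e : evB 17 = true := by decide +kernel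
  refine ⟨cm_mem m e, fun h => absurd ((comm_iff m rp_GB e).1 h.symm) (by decide +kernel), fun f h1 h2 h3 => ?_,
    span_GB m (by decide +kernel) e ⟨1, one_mem _, by simp, by simp⟩ ?_⟩
  swap
  · rintro k hk ky _ ⟨c, hc, cy, rfl⟩
    exact ⟨k * c, mul_mem hk hc, comm_mul ky cy, by group⟩
  obtain ⟨k, hk, ek, h⟩ := of_allV m (f := fun k => or (not (and (allL [0x856c6725f78cd6168e451510051d84,
    0xb52088cd65725ea931b73d4c408860, 0x83ac6aa5f2a4d6a2b2ed3c50408860] fun q => isCode (Nat.xor k (img (ap q) k)))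
      (isCode (Nat.xor (Nat.xor k (img (ap 0x6a5f33a28a2560eb44ccbae4508860) k))
        (img (ap 0x85823a0a72abc115b92db990561d44) k)))))
      (or (or (isCode k) (isCode (Nat.xor k 17))) (or (isCode (Nat.xor k (img (ap gB) 17)))
        (isCode (Nat.xor k (Nat.xor 17 (img (ap gB) 17))))))) (by decide +kernel) (h1 _ (cm_mem m e))
  have k1 : ∀ {q}, isM q = true → intw (ap q) (ap gB) (ap gB) = true → f (cm m (img (ap q) 17)) = cm m (img (ap q) k) :=
    fun h h' => by
      rw [← cm_img m (rp_mq h) e, h3 _ (m.κ_mem_M _) (comm_GB m (rp_mq h) h') _ (cm_mem m e), ek, cm_img m (rp_mq h) hk]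
  have r1 : isM 0x6a5f33a28a2560eb44ccbae4508860 = true := by decide +kernel
  have r2 : isM 0x85823a0a72abc115b92db990561d44 = true := by decide +kernel
  have e1 := evB_img (rp_mq r1) e
  have e2 := evB_img (rp_mq r2) e
  have e3 := evB_img rp_GB e
  have f1 : f 1 = 1 := by simpa using h2 1 (one_mem _) 1 (one_mem _)
  rw [(allL_iff _ _).2 fun q hq => by
      have := (allL_iff _ fun q => and (and (isM q) (intw (ap q) (ap gB) (ap gB)))
        (isCode (Nat.xor 17 (img (ap q) 17)))).1 (by decide +kernel) q hq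
      simp only [Bool.and_eq_true] at this
      rw [← cm_eq_iff m hk (evB_img (rp_mq this.1.1) hk), ← k1 this.1.1 this.1.2,
        ← (cm_eq_iff m e (evB_img (rp_mq this.1.1) e)).2 this.2, ek],
    (cm_eq_one m (evB_xor (evB_xor hk (evB_img (rp_mq r1) hk)) (evB_img (rp_mq r2) hk))).1 (by
      rw [cm_xor m (evB_xor hk (evB_img (rp_mq r1) hk)) (evB_img (rp_mq r2) hk), cm_xor m hk (evB_img (rp_mq r1) hk),
        ← k1 r1 (by decide +kernel), ← k1 r2 (by decide +kernel), ← ek, ← h2 _ (cm_mem m e) _ (cm_mem m e1),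
        ← h2 _ (mul_mem (cm_mem m e) (cm_mem m e1)) _ (cm_mem m e2), ← cm_xor m e e1, ← cm_xor m (evB_xor e e1) e2,
        (cm_eq_one m (evB_xor (evB_xor e e1) e2)).2 (by decide +kernel), f1])] at h
  simp only [Bool.and_self, Bool.not_true, Bool.false_or, Bool.or_eq_true] at h
  rw [← cm_eq_one m hk, ← cm_eq_iff m hk e, ← cm_eq_iff m hk e3, ← cm_eq_iff m hk (evB_xor e e3), ← cm_nn m rp_GB e,
    ← cm_img m rp_GB e, ← ek] at h
  tauto

end Jk

open Jk J4T.Rec
open CfsgLib.J4 (evB)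

theorem j_ky (hj : j.Good) : ∃ d l, KY j.V d l (j.κ GB) := by
  have cV : Nat.card j.V = 2 ^ 11 := hj.V_eq ▸ hj.wc.card
  have yy : j.κ GB * j.κ GB = 1 := by rw [← map_mul, GB_sq, map_one]
  have h1 := hj.full.cls GB ∅ ev_empty GB_ne (by rwa [j.toMM.c_empty, one_mul])
  rw [j.toMM.c_empty, one_mul, iff_true_right (inComm_code _ empty_mem_codeSets)] at h1
  obtain ⟨l, hl⟩ := isConj_iff.1 ((hj.full.two _ (fun e => GB_ne (j.toMM.κ_inj (e.trans j.κ.map_one.symm))) yy).resolve_left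
    fun h => h1.1 h fix_gB)
  refine ⟨_, l, j_ea hj, by rw [cV]; norm_num, j.toMM.c_mem (ev_two card_3), fun c hc => hj.full.cent_duad _ card_3
    (mem_centralizer_singleton_iff.2 hc), hl.symm, j.toMM.κ_mem_M _, noq _, fun f h1 h2 h3 _ a ha => ?_, ⟨_, cyc _⟩,
    M_le j.toMM (fun _ h => subset_closure (.inl h)) fun g => ?_⟩
  · let φ : j.V →* L := MonoidHom.mk' (fun a => f a) fun a b => h1 _ a.2 _ b.2
    have hφ : Function.Injective φ := (injective_iff_map_eq_one φ).2 fun a h => Subtype.ext (h2 _ a.2 h)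
    have cm' : ∀ x ∈ φ.range, ∀ y ∈ φ.range, x * y = y * x := by
      rintro _ ⟨x, rfl⟩ _ ⟨y, rfl⟩
      rw [← map_mul, ← map_mul]
      exact congrArg φ (Subtype.ext (j.toMM.V_comm x.2 y.2))
    obtain ⟨g, hg⟩ := hj.full.uniq φ.range ⟨⟨⟨fun x y => Subtype.ext (cm' _ x.2 _ y.2)⟩⟩, by
      rintro _ ⟨x, rfl⟩
      rw [← map_pow, show x ^ 2 = 1 from Subtype.ext ((pow_two _).trans (j.toMM.V_sq x.2)), map_one]⟩
      ((Nat.card_congr (MonoidHom.ofInjective hφ).toEquiv).symm.trans cV)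
    have e : evB 5 = true := by decide +kernel
    have h5 : cm j.toMM 5 ∈ φ.range := ⟨⟨_, cm_mem _ e⟩, h3 _ (cm_mem _ e)
      ((comm_iff _ rp_GB e).2 (by decide +kernel)).symm⟩
    have := map_cj_eq_iff.2 (hj.full.wc g (hg ▸ fun x hx => hj.full.cent_duad (ofMask 5) (by decide +kernel)
      (mem_centralizer_singleton_iff.2 (cm' _ hx _ h5))))
    exact this ▸ hg ▸ (⟨⟨a, ha⟩, rfl⟩ : f a ∈ φ.range)
  · have := Mathieu.simple_M24
    have h := (IsSimpleGroup.eq_bot_or_eq_top_of_normal (normalClosure {GB}) inferInstance).resolve_left fun h =>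
      GB_ne (mem_bot.1 (h ▸ subset_normalClosure rfl))
    refine mem_comap.1 ((closure_le (comap j.κ _)).2 (fun x hx => ?_) (h.ge (mem_top g)))
    obtain ⟨_, rfl, hx⟩ := Group.mem_conjugatesOfSet_iff.1 hx
    obtain ⟨r, rfl⟩ := isConj_iff.1 hx
    exact subset_closure (.inr ⟨_, j.toMM.κ_mem_M r, by simp⟩)

theorem j_nof (hj : j.Good) : NoF1 j.V (j.κ GB) := by
  have r := rp_mq (show isM 0x89d1094ef4695e952d95b11c610c01 = true by decide +kernel)
  have k : ∀ {φ} {g : M24}, Rp φ (g : P24) → isId (fun x => φ (φ x)) = true → fixM φ = 0 →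
      ∃ m ∈ normalizer (j.V : Set L), j.κ g = m * j.κ GB * m⁻¹ := fun {φ g} r h h' => by
    have e : fixS g = ∅ := by rw [← r.ofMask_fixM, h', ofMask_zero]
    obtain ⟨s, rfl⟩ := ((conj_gAB (Subtype.ext ((r.mul r).isId_iff.1 h)) fun e' =>
      fixS_eq_empty.1 e none (by rw [e']; rfl)).resolve_left fun h => h.1 e).2
    exact ⟨_, j.toMM.κ_mem_M s, by simp⟩
  refine ⟨j.κ GB, j.κ (mq 0x89d1094ef4695e952d95b11c610c01), (comm_GB _ r (by decide +kernel)).symm, ?_, ?_⟩
  · rintro _ (rfl | rfl | rfl)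
    exacts [⟨1, one_mem _, by simp⟩, k r (by decide +kernel) (by decide +kernel),
      map_mul j.κ _ _ ▸ k (rp_GB.mul r) (by decide +kernel) (by decide +kernel)]
  · rintro ⟨m, hm, h⟩
    have e : evB 6291456 = true := by decide +kernel
    have e1 := evB_xor e (evB_img r e)
    have e2 := evB_xor e1 (evB_img rp_GB e1)
    have := h _ (cm_mem _ e)
    rw [cm_nn _ r e, cm_nn _ rp_GB e1, ← cm_xor _ e e2, (cm_eq_iff _ (evB_xor e e2) (b := 8265) (by decide +kernel)).2
      (by decide +kernel), cm, cm, j.toMM.ψ_act hm (J4.even_of_evB e)] at this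
    have c1 : (ofMask 8265).card = 4 := by decide +kernel
    have c2 : ((j.toMM.ψ m : P24) • ofMask 6291456).card = 2 := by rw [Finset.card_smul_finset]; decide +kernel
    have := j.toMM.c_inj (ev_four c1) (ev_two c2) (by omega) this
    rw [this] at c1
    omega

end CfsgLib.WD
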