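import Mathlib
import Cfsg.Agent.Lib.WD.Defs2
import Cfsg.Agent.Lib.Mathieu.Simple

/-!
# Wreath doubling: small facts on the centraliser of the central involution of `J4`
-/

set_option autoImplicit false

namespace CfsgLib.WD.Jk

open Subgroup Cfsg CfsgLib.Tech CfsgLib.StdInt CfsgLib.J4T CfsgLib.Golay CfsgLib.M24E
open scoped Pointwise

/-- a non-trivial subgroup normalised by `DD` and meeting `DD` contains `M22` -/
theorem M22_le {T : Subgroup P24} (hn : ∀ d ∈ Spor.M22, ∀ x ∈ T, d * x * d⁻¹ ∈ T) {x : P24} (hx : x ∈ T)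
    (hD : x ∈ DD) (h1 : x ≠ 1) : Spor.M22 ≤ T := by
  have := Mathieu.simple_M22
  have hN : (T.subgroupOf Spor.M22).Normal := ⟨fun a ha g => by
    rw [mem_subgroupOf] at ha ⊢
    exact hn g g.2 _ ha⟩
  rcases hN.eq_bot_or_eq_top with h | h
  · refine absurd (eq_one_of_cent_M22 hD fun g hg => ?_) h1
    have m1 : x * g * x⁻¹ * g⁻¹ ∈ Spor.M22 :=
      mul_mem (conj_mem_of_mem_normalizer (DD_le_normalizer hD) hg) (inv_mem hg)
    have m2 : x * g * x⁻¹ * g⁻¹ ∈ T := by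
      have := mul_mem hx (hn g hg _ (inv_mem hx))
      simpa only [mul_assoc] using this
    have m3 : (⟨_, m1⟩ : Spor.M22) ∈ T.subgroupOf Spor.M22 := m2
    rw [h, mem_bot, Subtype.ext_iff] at m3
    have m4 : x * g * x⁻¹ * g⁻¹ = 1 := m3
    calc x * g = x * g * x⁻¹ * g⁻¹ * (g * x) := by group
      _ = g * x := by rw [m4, one_mul]
  · intro g hg
    have : (⟨g, hg⟩ : Spor.M22) ∈ T.subgroupOf Spor.M22 := h ▸ mem_top _
    exact this

theorem M22_DD {g : P24} (hg : g ∈ Spor.M22) : g ∈ DD := (mem_M22.1 hg).1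

theorem DD_le {T : Subgroup P24} (h : Spor.M22 ≤ T) {x : P24} (hx : x ∈ T) (hD : x ∈ DD)
    (h0 : x (pt 0) ≠ pt 0) : DD ≤ T := by
  intro g hg
  by_cases h1 : g (pt 0) = pt 0
  · exact h (mem_M22.2 ⟨hg, h1⟩)
  · have h2 : x⁻¹ * g ∈ T := h (mem_M22.2 ⟨mul_mem (inv_mem hD) hg, by
      rw [Equiv.Perm.mul_apply, (DD_swap hg h1).1, Equiv.Perm.inv_eq_iff_eq, (DD_swap hD h0).1]⟩)
    simpa using mul_mem hx h2

variable {L : Type*} [Group L] {z : L}

/-- the centraliser of `E` -/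
theorem cent_E (h : HM z) {l : L} (hl : ∀ q ∈ h.E, l * q = q * l) : l = 1 ∨ l = z := by
  have hz := hl z h.z_mem
  have hE : l ∈ h.E := h.mem_E_of_α hz fun v hv => h.α_eq hz hv hv (a := 0) (by
    rw [hl _ (h.s_mem hv), pow_zero, mul_one, mul_inv_cancel_right])
  obtain ⟨v, hv, a, -, rfl⟩ := h.mem_E'.1 hE
  by_cases h0 : v = 0
  · rw [h0, h.s_zero, one_mul]
    exact h.zpow_cases a
  · obtain ⟨w, hw, e⟩ := h.exists_conj_z hv h0
    have e1 := hl _ (h.s_mem hw)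
    rw [mul_assoc, ← h.s_zpow hw, ← mul_assoc, ← mul_assoc, mul_left_inj] at e1
    rw [← e1, mul_inv_cancel_right, left_eq_mul] at e
    exact absurd e h.z_ne

theorem pg_E (h : HM z) : IsPGroup 2 h.E := IsPGroup.of_card (n := 13) (by rw [h.card_E]; norm_num)

/-- the image of a subgroup in `DD` -/
def img (h : HM z) (N : Subgroup L) : Subgroup P24 where
  carrier := {p | ∃ x ∈ N, x * z = z * x ∧ h.θ x = p}
  one_mem' := ⟨1, one_mem _, by simp, h.θ_one⟩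
  mul_mem' := by
    rintro _ _ ⟨x, hx, cx, rfl⟩ ⟨y, hy, cy, rfl⟩
    exact ⟨x * y, mul_mem hx hy, comm_mul cx cy, h.θ_mul _ _ cx cy⟩
  inv_mem' := by
    rintro _ ⟨x, hx, cx, rfl⟩
    exact ⟨x⁻¹, inv_mem hx, comm_inv cx, h.θ_inv cx⟩

theorem mem_img {h : HM z} {N : Subgroup L} {p : P24} :
    p ∈ img h N ↔ ∃ x ∈ N, x * z = z * x ∧ h.θ x = p := Iff.rfl

theorem img_conj (h : HM z) {N : Subgroup L} (hn : ∀ k, k * z = z * k → ∀ x ∈ N, k * x * k⁻¹ ∈ N)
    {d : P24} (hd : d ∈ DD) {p : P24} (hp : p ∈ img h N) : d * p * d⁻¹ ∈ img h N := by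
  obtain ⟨x, hx, cx, rfl⟩ := hp
  obtain ⟨k, hk, rfl⟩ := h.θ_surj d hd
  have ck := h.K2_z hk
  exact ⟨_, hn k ck x hx, comm_mul (comm_mul ck cx) (comm_inv ck), h.θ_conj ck cx⟩

/-- vectors of type at most two are conjugate into the plane -/
theorem exists_plane (h : HM z) {v : ℕ} (hv : v < 4096) (h3 : qf v = 0) :
    ∃ w < 64, ∃ k, k * z = z * k ∧ h.α k v = w := by
  have h4 : ty v ≠ 3 := fun e => by rw [(ty_eq_three hv).1 e] at h3; exact one_ne_zero h3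
  have h5 := ty_lt v
  have : ∃ w < 64, ty v = ty w := by
    have e0 : ty 0 = 0 := by decide +kernel
    have e1 : ty 1 = 1 := by decide +kernel
    have e2 : ty 14 = 2 := by decide +kernel
    by_cases a : ty v = 0
    · exact ⟨0, by norm_num, by rw [a, e0]⟩
    by_cases b : ty v = 1
    · exact ⟨1, by norm_num, by rw [b, e1]⟩
    exact ⟨14, by norm_num, by omega⟩
  obtain ⟨w, hw, e⟩ := this
  obtain ⟨k, hk, e'⟩ := h.ty_trans hv (by omega) e
  exact ⟨w, hw, k, h.K2_z (h.mem_KK.1 hk).1, e'⟩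

variable {j : JM z}

theorem sz_mem_V (hj : j.Good) {w : ℕ} (hw : w < 64) (a : ℕ) : j.s w * z ^ a ∈ j.V :=
  mul_mem ((Rec.mem_V hj).2 ⟨w, hw, 0, by norm_num, 0, by norm_num, by rw [j.l_zero]; simp⟩) (Rec.zpow_mem_V j a)

theorem mem_VE (hj : j.Good) {x : L} (hV : x ∈ j.V) (hE : x ∈ j.E) : ∃ w < 64, ∃ a, x = j.s w * z ^ a := by
  obtain ⟨w, hw, y, hy, a, -, e⟩ := (Rec.mem_V hj).1 hV
  obtain ⟨v, hv, b, -, e'⟩ := j.toHM.mem_E'.1 hE
  have := j.toHM2.v_inj (w := w) (w' := v) (x := y) (x' := 0) (a := a) (a' := b) (by omega) hv hy (by norm_num)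
    (by rw [← e, e', j.l_zero, mul_one])
  exact ⟨w, hw, b, by rw [e', this.1]⟩

theorem ker_mem_M (hj : j.Good) {x : L} (hx : x * z = z * x) (e : j.θ x = 1) : x ∈ normalizer (j.V : Set L) :=
  (Rec.mem_M hj hx).2 (by rw [e, one_smul])

theorem not_conj_GB (hj : j.Good) : ¬ IsConj z (j.κ GB) := by
  have h2 : GB * GB = 1 := Subtype.ext (by
    have := pow_orderOf_eq_one (pm gB)
    rwa [ord_gB, pow_two] at this)
  have h1 : GB ≠ 1 := fun e => by
    have h : pm gB = 1 := congrArg Subtype.val e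
    have := ord_gB
    rw [h, orderOf_one] at this
    exact absurd this (by norm_num)
  have := hj.full.cls GB ∅ ev_empty h1 (by rw [j.toMM.c_empty, one_mul, ← map_mul, h2, map_one])
  rw [j.toMM.c_empty, one_mul] at this
  intro h
  exact (this.1 h).2 (inComm_code _ (by
    have := (j.toMM.c_eq_one ∅ ev_empty).1 j.toMM.c_empty
    exact this)) fix_gB

theorem cj_V (hj : j.Good) (X : Subgroup L) (h2 : ∀ x ∈ X, x * x = 1) (h : 2 ^ 11 ≤ Nat.card X) :
    ∃ g, X = Tech.cj g j.V := by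
  obtain ⟨g, hg⟩ := hj.wc.uniq X ⟨⟨⟨fun a b => Subtype.ext (comm_of_sq h2 a.2 b.2)⟩⟩,
    fun a ha => by rw [pow_two, h2 a ha]⟩ h
  exact ⟨g, by rw [hj.V_eq]; exact hg⟩

theorem two_group (hj : j.Good) {P : Subgroup L} (hP : IsPGroup 2 P) (h1 : j.V ≤ P) {g : L}
    (h2 : Tech.cj g j.V ≤ P) : g ∈ normalizer (j.V : Set L) := by
  rw [hj.V_eq] at h1 h2 ⊢
  exact hj.wc.two_group P g hP h1 h2

theorem card_V (hj : j.Good) : Nat.card j.V = 2 ^ 11 := by rw [hj.V_eq]; exact hj.wc.card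

end CfsgLib.WD.Jk
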