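import Mathlib
import Cfsg.Agent.Lib.WD.JkA
import Cfsg.Agent.Lib.WD.JkC1

/-!
# Wreath doubling: the Sylow 2-subgroup of `J4`
-/

set_option autoImplicit false
set_option linter.unusedSectionVars false

namespace CfsgLib.WD

open Subgroup Cfsg CfsgLib.Tech CfsgLib.StdInt CfsgLib.J4T CfsgLib.Golay CfsgLib.M24E
open scoped Pointwise

variable {L : Type*} [Group L] [Finite L] {z : L} {j : JM z}

theorem j_syl (hj : j.Good) : ∃ S : Subgroup L, IsSylowIn 2 S ⊤ ∧ j.V ≤ S ∧ j.E ≤ S ∧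
    S ≤ normalizer (j.V : Set L) ∧ ∀ s ∈ S, s * z = z * s := by
  have hV : IsPGroup 2 j.V := IsPGroup.of_card (Jk.card_V hj)
  have hVE : IsPGroup 2 (j.E ⊔ j.V : Subgroup L) :=
    IsPGroup.to_sup_of_normal_right' (Jk.pg_E j.toHM) hV fun x hx => Rec.E_mem_M hj hx
  obtain ⟨S, hS, hle⟩ := exists_isSylowIn_ge hVE le_top
  have h1 : j.V ≤ S := le_sup_right.trans hle
  have h2 : j.E ≤ S := le_sup_left.trans hle
  refine ⟨S, hS, h1, h2, fun s hs => Jk.two_group hj hS.pgroup h1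
    (cj_le_iff.2 fun x hx => mul_mem (mul_mem hs (h1 hx)) (inv_mem hs)), fun s hs => ?_⟩
  have : Nontrivial S := ⟨⟨⟨z, h2 j.toHM.z_mem⟩, 1, fun e => j.toHM.z_ne (congrArg Subtype.val e)⟩⟩
  have := hS.pgroup.center_nontrivial
  obtain ⟨c, hc⟩ := exists_ne (1 : center S)
  have hc' : ∀ x ∈ S, x * (c.1 : L) = c.1 * x := fun x hx =>
    congrArg Subtype.val (mem_center_iff.1 c.2 ⟨x, hx⟩)
  rcases Jk.cent_E j.toHM (l := c.1) (fun q hq => (hc' q (h2 hq)).symm) with e | e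
  · exact absurd (Subtype.ext (Subtype.ext e)) hc
  · rw [← e]; exact hc' s hs

omit [Finite L] in
theorem Jk.duad_not (hj : j.Good) {d : Finset GolayPt} (hd : d.card = 2) : j.c d ∉ Aj j.toMM := by
  rintro ⟨T, hT, e⟩
  exact hj.full.nconj d hd (e ▸ j.toMM.isConj_tetrad hT)

theorem j_ko (hj : j.Good) : KO j.V (Aj j.toMM) 11 1771 276 where
  ea := j_ea hj
  card := Jk.card_V hj
  AF := by
    rintro _ ⟨T, hT, rfl⟩
    exact j.toMM.c_mem (ev_four hT)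
  oneA := by
    rintro ⟨T, hT, e⟩
    have hT : T.card = 4 := hT
    exact j.toMM.c_ne_one (ev_four hT) (by omega) (by omega) e
  cardA := j.toMM.ncard_tetrads
  sum := by norm_num
  inv := by
    rintro m hm _ ⟨T, hT, rfl⟩
    exact ⟨_, by simpa using hT, (j.toMM.ψ_act hm (ev_four hT)).symm⟩
  tr := by
    intro x hx x' hx' h1 h1' h
    rcases j.toMM.V_cases hx with e | ⟨d, hd, rfl⟩ | ⟨T, hT, rfl⟩
    · exact absurd e h1
    · rcases j.toMM.V_cases hx' with e | ⟨d', hd', rfl⟩ | ⟨T', hT', rfl⟩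
      · exact absurd e h1'
      · obtain ⟨g, -, e⟩ := j.toMM.exists_conj_c (ev_two hd) (hd.trans hd'.symm) (by omega)
        exact ⟨_, j.toMM.κ_mem_M g, e⟩
      · exact absurd (h.2 ⟨T', hT', rfl⟩) (Jk.duad_not hj hd)
    · rcases j.toMM.V_cases hx' with e | ⟨d', hd', rfl⟩ | ⟨T', hT', rfl⟩
      · exact absurd e h1'
      · exact absurd (h.1 ⟨T, hT, rfl⟩) (Jk.duad_not hj hd')
      · obtain ⟨g, -, e⟩ := j.toMM.exists_conj_c (ev_four hT) (hT.trans hT'.symm) (by omega)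
        exact ⟨_, j.toMM.κ_mem_M g, e⟩

theorem j_ke (hj : j.Good) {S : Subgroup L} (hS : IsSylowIn 2 S ⊤) (h1 : j.V ≤ S) (h2 : j.E ≤ S)
    (h3 : S ≤ normalizer (j.V : Set L)) (h4 : ∀ s ∈ S, s * z = z * s) :
    KE S j.V j.V z (Aj j.toMM) 11 1771 276 where
  syl := hS
  le := h1
  le' := h1
  norm := h3
  norm' := h3
  sq := (j_ea hj).sq
  sq' := (j_ea hj).sq
  card := Jk.card_V hj
  card' := Jk.card_V hj
  cent := fun s _ h => (j_ea hj).cent s h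
  calA := fun X hX a b => by
    obtain ⟨g, rfl⟩ := Jk.cj_V hj X a b
    exact Or.inl (mem_normalizer_iff_cj.1 (Jk.two_group hj hS.pgroup h1 hX))
  zne := j.toHM.z_ne
  zc := fun s _ => ⟨fun h => Jk.cent_E j.toHM fun q hq => h q (h2 hq), by
    rintro (rfl | rfl) x hx
    · simp
    · exact (h4 x hx).symm⟩
  AE := (j_ko hj).AF
  zA := ⟨_, card_15, j.toMM.z_eq.symm⟩
  oneA := (j_ko hj).oneA
  cardA := (j_ko hj).cardA
  sum := by norm_num
  val := by norm_num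
  pr1 := ⟨277, by norm_num, by norm_num, by norm_num, fun i a b => by interval_cases i <;> norm_num⟩
  pr2 := ⟨21341, by norm_num, by norm_num, by norm_num, fun i a b => by interval_cases i <;> norm_num⟩

omit [Finite L] in
theorem Jk.ncl (hj : j.Good) (N : Subgroup L) (h1 : ∀ m ∈ normalizer (j.V : Set L), m * z = z * m → m ∈ N)
    (h2 : ∀ h, h * z = z * h → ∀ x ∈ N, h * x * h⁻¹ ∈ N) (h : L) (hh : h * z = z * h) : h ∈ N := by
  have key : ∀ x ∈ [1, 16, 17], pm (rE x) ∈ Jk.img j.toHM N := fun x hx => by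
    have hx' : x < 32 := by revert x; decide
    obtain ⟨k, hk, e⟩ := j.θ_surj _ (rE_mem hx')
    have ck := j.toHM.K2_z hk
    exact ⟨k, h1 k ((Rec.mem_M hj ck).2 (by rw [e]; exact Rec.rE_o0 hx)) ck, ck, e⟩
  have n1 : pm (rE 1) ≠ 1 := fun e => by
    have := ((pm_rp (isM_rE (x := 1) (by norm_num))).isId_iff).2 e
    revert this; decide +kernel
  have n2 : pm (rE 16) (pt 0) ≠ pt 0 := fun e => by
    have := ((pm_rp (isM_rE (x := 16) (by norm_num))).pt_eq_iff (x := 0) (y := 0) (by norm_num) (by norm_num))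
    have h' : ap (rE 16) 0 ≠ 0 := by decide +kernel
    exact h' (by tauto)
  have a := Jk.M22_le (fun d hd x hx => Jk.img_conj j.toHM h2 (Jk.M22_DD hd) hx) (key 1 (by simp))
    (rE_mem (by norm_num)) n1
  obtain ⟨x, hx, cx, e⟩ := Jk.DD_le a (key 16 (by simp)) (rE_mem (by norm_num)) n2 (j.θ_mem h hh)
  have c := comm_mul (comm_inv cx) hh
  have := h1 _ (Jk.ker_mem_M hj c (by
    rw [j.θ_mul _ _ (comm_inv cx) hh, j.toHM.θ_inv cx, e, inv_mul_cancel])) c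
  simpa using mul_mem hx this

omit [Finite L] in
theorem Jk.inv (hj : j.Good) {v : ℕ} (hv : v < 4096) (h0 : qf v = 0) (a : ℕ) :
    ∃ h, h * z = z * h ∧ h * (j.s v * z ^ a) * h⁻¹ ∈ j.V := by
  obtain ⟨w, hw, k, ck, e⟩ := Jk.exists_plane j.toHM hv h0
  obtain ⟨b, -, e'⟩ := j.toHM.exists_conj ck hv
  refine ⟨k, ck, ?_⟩
  rw [conj_mul.symm, e', conj_zpow ck, e, mul_assoc, ← pow_add]
  exact Jk.sz_mem_V hj hw _

omit [Finite L] in
theorem Jk.gen (hj : j.Good) :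
    j.E ≤ closure {x | ∃ h, h * z = z * h ∧ ∃ v ∈ j.V ⊓ j.E, x = h * v * h⁻¹} := by
  set C := closure {x | ∃ h, h * z = z * h ∧ ∃ v ∈ j.V ⊓ j.E, x = h * v * h⁻¹}
  have hz : z ∈ C := subset_closure ⟨1, by simp, z, ⟨j.toMM.z_mem, j.toHM.z_mem⟩, by simp⟩
  have h1 : ∀ v < 4096, qf v = 0 → j.s v ∈ C := fun v hv h0 => by
    obtain ⟨k, ck, e⟩ := Jk.inv hj hv h0 0
    rw [pow_zero, mul_one] at e
    exact subset_closure ⟨k⁻¹, comm_inv ck, _, ⟨e, j.toHM.conj_mem_E ck (j.toHM.s_mem hv)⟩, by group⟩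
  have h2 : ∀ v < 4096, j.s v ∈ C := by
    refine bits_ind (by rw [j.s_zero]; exact one_mem _) (fun i hi => h1 _ (two_pow_lt hi) ?_)
      fun x hx y hy a b => ?_
    · revert i; decide +kernel
    · rw [j.toHM.s_xor hx hy]
      exact mul_mem (mul_mem a b) (pow_mem hz _)
  intro x hx
  obtain ⟨v, hv, a, -, rfl⟩ := j.toHM.mem_E'.1 hx
  exact mul_mem (h2 v hv) (pow_mem hz _)

omit [Finite L] in
theorem Jk.rho_gen (hj : j.Good) (h : L) (hh : h * z = z * h) : ∃ ρ ∈ normalizer (j.V : Set L), ρ * z = z * ρ ∧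
    h⁻¹ * ρ * h ∈ normalizer (j.V : Set L) ∧
    j.V ⊓ j.E ≤ closure {x | x = z ∨ ∃ a ∈ j.V ⊓ j.E, x = nn (h⁻¹ * ρ * h) a} := by
  have c : h⁻¹ * j.ρ * h * z = z * (h⁻¹ * j.ρ * h) := comm_mul (comm_mul (comm_inv hh) j.rho_z) hh
  have e : j.θ (h⁻¹ * j.ρ * h) = 1 := by
    have := j.toHM.θ_conj (comm_inv hh) j.rho_z
    rw [inv_inv] at this
    rw [this, j.θ_rho, mul_one, mul_inv_cancel]
  refine ⟨j.ρ, Rec.rho_mem_M hj, j.rho_z, Jk.ker_mem_M hj c e, ?_⟩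
  obtain ⟨y, hy, i, hi, e1⟩ := j.toHM.θ_eq_one c e
  have hs : ∀ w < 64, ∃ w' < 64, w' ^^^ j.α (h⁻¹ * j.ρ * h) w' = w := by
    have t1 : ∀ w < 64, rho w < 64 := by decide +kernel
    intro w hw
    have hw' : w < 4096 := by omega
    rw [e1]
    interval_cases i
    · exfalso
      have h1 : j.ρ ∈ j.E := by
        have := j.toHM.conj_mem_E hh hy
        rw [pow_zero, mul_one] at e1
        rw [← e1] at this
        simpa [mul_assoc] using this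
      have := j.toHM.α_E h1 (v := 1) (by norm_num)
      rw [j.α_rho 1 (by norm_num)] at this
      exact rho_ne (by norm_num) (by norm_num) this
    · refine ⟨rho w, t1 w hw, ?_⟩
      rw [pow_one, j.toHM.α_E_mul hy j.rho_z (rho_lt hw'), j.α_rho _ (rho_lt hw'), ← rho_rho (rho_lt hw'),
        rho_three hw']
    · refine ⟨rho (rho w), t1 _ (t1 w hw), ?_⟩
      have a := rho_lt (rho_lt hw')
      rw [j.toHM.α_E_mul hy (comm_pow j.rho_z 2) a, j.toHM.α_rho_two a, rho_rho a, ← Nat.xor_assoc,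
        Nat.xor_self, Nat.zero_xor, rho_three hw']
  generalize h⁻¹ * j.ρ * h = r at c hs
  set C := closure {x | x = z ∨ ∃ a ∈ j.V ⊓ j.E, x = nn r a}
  have hz : z ∈ C := subset_closure (Or.inl rfl)
  intro x hx
  obtain ⟨w, hw, a, rfl⟩ := Jk.mem_VE hj hx.1 hx.2
  obtain ⟨w', hw', rfl⟩ := hs w hw
  have hw2 : w' < 4096 := by omega
  obtain ⟨b, -, e'⟩ := j.toHM.exists_conj c hw2
  have m : nn r (j.s w') ∈ C := subset_closure (Or.inr ⟨_, ⟨by simpa using Jk.sz_mem_V hj hw' 0,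
    j.toHM.s_mem hw2⟩, rfl⟩)
  rw [nn, e', ← mul_assoc] at m
  rw [j.toHM.s_xor hw2 (j.α_lt _ _)]
  exact mul_mem (mul_mem ((C.mul_mem_cancel_right (pow_mem hz _)).1 m) (pow_mem hz _)) (pow_mem hz _)

theorem j_kq (hj : j.Good) {S : Subgroup L} (hS : IsSylowIn 2 S ⊤) (h2 : j.E ≤ S) (h4 : ∀ s ∈ S, s * z = z * s) :
    KQ j.V S j.E z where
  syl := hS
  zF := j.toMM.z_mem
  zQ := j.toHM.z_mem
  zne := j.toHM.z_ne
  QS := h2
  Sz := h4
  nQ := fun _ hh => mem_normalizer_of_forall fun _ hx => j.toHM.conj_mem_E hh hx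
  cQ := fun _ hl => Jk.cent_E j.toHM hl
  com := fun q hq r hr => by
    obtain ⟨v, hv, a, -, rfl⟩ := j.toHM.mem_E'.1 hq
    obtain ⟨w, hw, b, -, rfl⟩ := j.toHM.mem_E'.1 hr
    have cq : j.s v * z ^ a * z ^ b = z ^ b * (j.s v * z ^ a) := comm_zpow (j.toHM.E_z hq) b
    have e : j.s w * z ^ b * (j.s v * z ^ a) * (j.s w * z ^ b)⁻¹ = z ^ bf w v * (j.s v * z ^ a) := by
      rw [mul_assoc (j.s w), ← cq, mul_inv_rev, ← mul_assoc, ← mul_assoc, mul_inv_cancel_right, conj_mul.symm,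
        j.toHM.s_conj hw hv, conj_zpow (j.toHM.s_z hw), j.toHM.s_zpow hv, mul_assoc]
    rw [e]
    rcases j.toHM.zpow_cases (bf w v) with h | h
    · left; rw [h, one_mul]
    · right; rw [h]
  ncl := Jk.ncl hj
  gen := Jk.gen hj
  rho := Jk.rho_gen hj
  inv := fun q hq h2 => by
    obtain ⟨v, hv, a, -, rfl⟩ := j.toHM.mem_E'.1 hq
    refine Jk.inv hj hv ?_ a
    rw [mul_assoc, ← mul_assoc (z ^ a), ← j.toHM.s_zpow hv, mul_assoc, j.toHM.zpow_self, mul_one,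
      j.toHM.s_sq hv, ← pow_zero z, j.toHM.zpow_eq_iff] at h2
    have := qf_lt v
    omega

theorem j_invM (hj : j.Good) {s : L} (hs : s ∈ normalizer (j.V : Set L)) (h2 : s * s = 1) :
    ∃ m ∈ normalizer (j.V : Set L), m * s * m⁻¹ ∈ j.V ∨ m * s * m⁻¹ ∈ j.E := by
  obtain ⟨a, ha, g, rfl⟩ := (j.mem_M s).1 hs
  by_cases hg : g = 1
  · exact ⟨1, one_mem _, Or.inl (by simpa [hg] using j.toMM.c_mem ha)⟩
  · obtain ⟨u, hu, ⟨n, hn, e⟩, -⟩ := j.clsM hj.wc hj.V_eq (Jk.not_conj_GB hj) g ha hg h2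
    exact ⟨n⁻¹, inv_mem hn, Or.inr (by rw [← e]; simpa [mul_assoc] using j.toHM.s_mem hu)⟩

theorem j_inv (hj : j.Good) (l : L) (h2 : l * l = 1) : ∃ c, c * l * c⁻¹ ∈ j.V := by
  by_cases h1 : l = 1
  · exact ⟨1, by simp [h1]⟩
  rcases hj.full.two l h1 h2 with h | h
  · obtain ⟨c, e⟩ := isConj_iff.1 h.symm
    exact ⟨c, e ▸ j.toMM.z_mem⟩
  · obtain ⟨c, e⟩ := isConj_iff.1 h.symm
    exact ⟨c, e ▸ j.toMM.c_mem (ev_two card_3)⟩

theorem j_cal (hj : j.Good) (X : Subgroup L) (h2 : ∀ x ∈ X, x * x = 1) (h : 2 ^ 11 ≤ Nat.card X) :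
    ∃ c, Tech.cj c X = j.V := by
  obtain ⟨g, rfl⟩ := Jk.cj_V hj X h2 h
  exact ⟨g⁻¹, cj_inv_cj g _⟩

theorem noOrb_1772 : NoOrb 12 (1 + 1771) :=
  ⟨443, by norm_num, by norm_num, by norm_num, fun i a b => by interval_cases i <;> norm_num⟩

theorem noOrb_277 : NoOrb 12 (1 + 276) :=
  ⟨277, by norm_num, by norm_num, by norm_num, fun i a b => by interval_cases i <;> norm_num⟩

end CfsgLib.WD
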