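import Mathlib
import Cfsg.Agent.Lib.WD.JkA
import Cfsg.Agent.Lib.WD.JkC1
import Cfsg.Agent.Lib.StdW.Defs

/-!
# Wreath doubling: the hypotheses of the reduction for `J4`
-/

set_option autoImplicit false
set_option linter.unusedSectionVars false

namespace CfsgLib.WD

open Subgroup Cfsg CfsgLib.Tech CfsgLib.StdInt CfsgLib.J4T CfsgLib.Golay CfsgLib.M24E
open scoped Pointwise

variable {L : Type*} [Group L] [Finite L] {z : L} {j : JM z}

namespace Jk

theorem M22_le' {T : Subgroup P24} {x : P24} (hD : x ∈ DD) (h1 : x ≠ 1)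
    (h : ∀ d ∈ Spor.M22, d * x * d⁻¹ ∈ T) : Spor.M22 ≤ T := by
  let C : Subgroup P24 :=
    { carrier := {p | ∀ d ∈ Spor.M22, d * p * d⁻¹ ∈ T}
      one_mem' := fun d _ => by simp
      mul_mem' := fun ha hb d hd => by rw [← conj_mul]; exact mul_mem (ha d hd) (hb d hd)
      inv_mem' := fun ha d hd => by rw [← conj_inv]; exact inv_mem (ha d hd) }
  have := M22_le (T := C) (fun d hd p hp d' hd' => by
    have := hp _ (mul_mem hd' hd)
    simpa only [mul_inv_rev, mul_assoc] using this) h hD h1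
  intro p hp
  simpa using this hp 1 (one_mem _)

theorem wf_conj (g : L) {u x : L} (h : x ∈ Wf (MulAut.conj u)) :
    g * x * g⁻¹ ∈ Wf (MulAut.conj (g * u * g⁻¹)) := by
  induction h using closure_induction with
  | mem x hx =>
    refine mem_Wf (odd_conj g hx.1) ?_
    have := hx.2
    rw [MulAut.conj_apply] at this ⊢
    rw [conj_mul, conj_inv, conj_mul, this]
  | one => simp
  | mul x y _ _ hx hy => rw [← conj_mul]; exact mul_mem hx hy
  | inv x _ hx => rw [← conj_inv]; exact inv_mem hx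

theorem perf_le_wf {u : L} {H : Subgroup L} (h1 : ∀ x ∈ H, x * u = u * x) (h2 : ⁅H, H⁆ = H) :
    H ≤ Wf (MulAut.conj u) := by
  have fx : ∀ x ∈ H, MulAut.conj u x = x := fun x hx => by
    rw [MulAut.conj_apply, ← h1 x hx, mul_inv_cancel_right]
  have hN : ((Wf (MulAut.conj u)).subgroupOf H).Normal :=
    ⟨fun a ha g => mem_subgroupOf.2 (conj_mem_Wf (fx g g.2) (mem_subgroupOf.1 ha))⟩
  have := Subgroup.isPerfect_iff.2 h2
  have hp : IsPGroup 2 (H ⧸ (Wf (MulAut.conj u)).subgroupOf H) := fun q => by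
    obtain ⟨x, rfl⟩ := QuotientGroup.mk_surjective q
    obtain ⟨k, m, hm, e⟩ := Nat.exists_eq_two_pow_mul_odd (orderOf_pos x).ne'
    refine ⟨k, ?_⟩
    rw [← QuotientGroup.mk_pow, QuotientGroup.eq_one_iff, mem_subgroupOf]
    refine mem_Wf (odd_of_pow hm ?_) (fx _ (x ^ 2 ^ k).2)
    rw [← coe_pow, ← pow_mul, ← e, pow_orderOf_eq_one, coe_one]
  have := hp.isNilpotent
  have hs : Subsingleton (H ⧸ (Wf (MulAut.conj u)).subgroupOf H) := by
    by_contra h
    have := not_subsingleton_iff_nontrivial.1 h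
    exact Group.IsPerfect.not_isNilpotent (H ⧸ (Wf (MulAut.conj u)).subgroupOf H) inferInstance
  intro x hx
  exact mem_subgroupOf.1 ((QuotientGroup.eq_one_iff (⟨x, hx⟩ : H)).1 (Subsingleton.elim _ _))

/-- the local facts on an involution -/
structure Lc (u : L) : Prop where
  ind : ∀ w w', Odd (orderOf w) → Odd (orderOf w') → w * u = u * w → w' * u = u * w' →
    (∀ a, a * u = u * a → w' * (a * w * a⁻¹) = a * w * a⁻¹ * w') → w = 1 ∨ w' = 1
  inn : u ∈ Wf (MulAut.conj u)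
  fix : ∀ c, c * u = u * c → (∀ v ∈ Wf (MulAut.conj u), Two v → c * v = v * c) → c = 1 ∨ c = u

theorem cc {g a u : L} (h : a * (g * u * g⁻¹) = g * u * g⁻¹ * a) : g⁻¹ * a * g * u = u * (g⁻¹ * a * g) := by
  calc _ = g⁻¹ * (a * (g * u * g⁻¹)) * g := by group
    _ = _ := by rw [h]; group

theorem cc' (g : L) {a u : L} (h : a * u = u * a) :
    g * a * g⁻¹ * (g * u * g⁻¹) = g * u * g⁻¹ * (g * a * g⁻¹) := by rw [conj_mul, conj_mul, h]

theorem Lc.conj {u : L} (h : Lc u) (g : L) : Lc (g * u * g⁻¹) where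
  ind := fun w w' o o' c c' hh => by
    have := h.ind (g⁻¹ * w * g) (g⁻¹ * w' * g) (by simpa using odd_conj g⁻¹ o) (by simpa using odd_conj g⁻¹ o')
      (cc c) (cc c') fun a ha => by
        have := hh _ (cc' g ha)
        calc _ = g⁻¹ * (w' * (g * a * g⁻¹ * w * (g * a * g⁻¹)⁻¹)) * g := by group
          _ = _ := by rw [this]; group
    refine this.imp (fun e => ?_) fun e => ?_
    · calc w = g * (g⁻¹ * w * g) * g⁻¹ := by group
        _ = 1 := by rw [e]; group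
    · calc w' = g * (g⁻¹ * w' * g) * g⁻¹ := by group
        _ = 1 := by rw [e]; group
  inn := wf_conj g h.inn
  fix := fun c hc hh => by
    have := h.fix (g⁻¹ * c * g) (cc hc) fun v hv h2 => cc (hh _ (wf_conj g hv) (two_conj g h2))
    refine this.imp (fun e => ?_) fun e => ?_
    · calc c = g * (g⁻¹ * c * g) * g⁻¹ := by group
        _ = 1 := by rw [e]; group
    · rw [← e]; group

theorem two_E (h : HM z) {x : L} (hx : x ∈ h.E) : Two x := isPGroup_iff_mem.1 (pg_E h) x hx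

theorem onto (h : HM z) {x : L} (c : x * z = z * x) (e : h.θ x = 1) (hx : x ∉ h.E) {w : ℕ} (hw : w < 4096) :
    ∃ w' < 4096, w' ^^^ h.α x w' = w := by
  obtain ⟨y, hy, i, hi, rfl⟩ := h.θ_eq_one c e
  interval_cases i
  · exact absurd (by simpa using hy) hx
  · refine ⟨rho w, rho_lt hw, ?_⟩
    rw [pow_one, h.α_E_mul hy h.rho_z (rho_lt hw), h.α_rho _ (rho_lt hw), ← rho_rho (rho_lt hw), rho_three hw]
  · have a := rho_lt (rho_lt hw)
    refine ⟨rho (rho w), a, ?_⟩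
    rw [h.α_E_mul hy (comm_pow h.rho_z 2) a, h.α_rho_two a, rho_rho a, ← Nat.xor_assoc,
      Nat.xor_self, Nat.zero_xor, rho_three hw]

/-- commutators of `E` with `x` -/
theorem exists_comm (h : HM z) {x : L} (c : x * z = z * x) (e : h.θ x = 1) (hx : x ∉ h.E) {w : ℕ}
    (hw : w < 4096) : ∃ v < 4096, ∃ a, h.s v * x * (h.s v)⁻¹ * x⁻¹ = h.s w * z ^ a := by
  obtain ⟨v, hv, rfl⟩ := onto h c e hx hw
  obtain ⟨a, -, e1⟩ := h.exists_conj c hv
  refine ⟨v, hv, beta v (h.α x v) + (a + qf (h.α x v)), ?_⟩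
  have e2 : h.s v * x * (h.s v)⁻¹ * x⁻¹ = h.s v * (x * h.s v * x⁻¹)⁻¹ := by group
  rw [e2, e1, mul_inv_rev, h.zpow_inv, h.s_inv (h.α_lt _ _), h.s_xor hv (h.α_lt _ _), pow_add, pow_add,
    mul_assoc _ (z ^ beta _ _), ← mul_assoc (z ^ beta _ _), h.zpow_self, one_mul,
    ← mul_assoc (z ^ a), ← h.s_zpow (h.α_lt _ _)]
  group

theorem E_le_wf (h : HM z) : h.E ≤ Wf (MulAut.conj z) := by
  have hρ : h.ρ ∈ Wf (MulAut.conj z) := mem_Wf_conj (by rw [h.orderOf_rho]; decide) h.rho_z.symm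
  have hE : h.ρ ∉ h.E := fun hE => by
    have := h.α_E hE (v := 1) (by norm_num)
    rw [h.α_rho 1 (by norm_num)] at this
    exact rho_ne (by norm_num) (by norm_num) this
  have h1 : ∀ w < 4096, ∃ a, h.s w * z ^ a ∈ Wf (MulAut.conj z) := fun w hw => by
    obtain ⟨v, hv, a, e⟩ := exists_comm h h.rho_z h.θ_rho hE hw
    refine ⟨a, e ▸ mul_mem (conj_mem_Wf ?_ hρ) (inv_mem hρ)⟩
    rw [MulAut.conj_apply, ← h.s_z hv, mul_inv_cancel_right]
  have hz : z ∈ Wf (MulAut.conj z) := by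
    obtain ⟨a, m⟩ := h1 72 (by norm_num)
    have := mul_mem m m
    have q : qf 72 = 1 := by decide +kernel
    rwa [mul_assoc, ← mul_assoc (z ^ a), ← h.s_zpow (by norm_num), mul_assoc, h.zpow_self, mul_one,
      h.s_sq (by norm_num), q, pow_one] at this
  intro x hx
  obtain ⟨v, hv, a, -, rfl⟩ := h.mem_E'.1 hx
  obtain ⟨b, m⟩ := h1 v hv
  exact mul_mem ((Subgroup.mul_mem_cancel_right _ (pow_mem hz b)).1 m) (pow_mem hz a)

theorem ind_ker (h : HM z) {w w' : L} (o : Odd (orderOf w)) (o' : Odd (orderOf w')) (c : w * z = z * w)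
    (c' : w' * z = z * w') (hh : ∀ a, a * z = z * a → w' * (a * w * a⁻¹) = a * w * a⁻¹ * w') (e : h.θ w = 1) :
    w = 1 ∨ w' = 1 := by
  by_cases hx : w ∈ h.E
  · exact Or.inl (eq_one_of_odd_two o (two_E h hx))
  refine Or.inr (eq_one_of_odd_two o' (two_E h (h.mem_E_of_α c' fun u hu => ?_)))
  obtain ⟨v, hv, a, e1⟩ := exists_comm h c e hx hu
  have c1 : Commute w' (h.s v * w * (h.s v)⁻¹) := hh _ (h.s_z hv)
  have c2 : Commute w' w := (by simpa using hh 1 (by simp) : w' * w = w * w')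
  have c3 := c1.mul_right c2.inv_right
  rw [e1] at c3
  have c4 : Commute w' (h.s u) := by
    simpa using c3.mul_right (Commute.inv_right (show Commute w' (z ^ a) from comm_zpow c' a))
  exact h.α_eq c' hu hu (a := 0) (by rw [c4.eq]; simp)

theorem lc_z (h : HM z) : Lc z where
  ind := fun w w' o o' c c' hh => by
    by_cases e : h.θ w = 1
    · exact ind_ker h o o' c c' hh e
    refine (ind_ker h o' o c' c (fun a ha => ?_) ?_).symm
    · have := hh _ (comm_inv ha)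
      calc _ = a * (a⁻¹ * w * a⁻¹⁻¹ * w') * a⁻¹ := by group
        _ = _ := by rw [← this]; group
    · have := M22_le' (T := centralizer {h.θ w'}) (h.θ_mem w c) e fun d hd => by
        obtain ⟨k, hk, rfl⟩ := h.θ_surj d (M22_DD hd)
        have ck := h.K2_z hk
        have c1 := comm_mul (comm_mul ck c) (comm_inv ck)
        rw [mem_centralizer_singleton_iff, ← h.θ_conj ck c, ← h.θ_mul _ _ c1 c', ← h.θ_mul _ _ c' c1, hh k ck]
      exact eq_one_of_cent_M22 (h.θ_mem w' c') fun g hg => (mem_centralizer_singleton_iff.1 (this hg)).symm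
  inn := E_le_wf h h.z_mem
  fix := fun _ _ hh => cent_E h fun q hq => hh q (E_le_wf h hq) (two_E h hq)

theorem V_le_wf0 (hj : j.Good) : H0 j.toMM ≤ Wf (MulAut.conj (j.c {pt 0, pt 23})) :=
  perf_le_wf (j_kh hj).cd (j_kh hj).perf

theorem card_023 : ({pt 0, pt 23} : Finset GolayPt).card = 2 := Finset.card_pair pt0_ne

theorem κ22_H0 {g : P24} (hg : g ∈ Spor.M22) : j.κ ⟨g, J4T.DD_le (M22_DD hg)⟩ ∈ H0 j.toMM :=
  subset_closure (Or.inr ⟨_, (mem_M22.1 hg).2, DD_fix23 (M22_DD hg) (mem_M22.1 hg).2, rfl⟩)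

theorem lc_b (hj : j.Good) : Lc (j.c {pt 0, pt 23}) where
  ind := fun w w' o o' c c' hh => by
    have hM : ∀ x, x * j.c {pt 0, pt 23} = j.c {pt 0, pt 23} * x →
        x ∈ normalizer (j.V : Set L) ∧ (j.toMM.ψ x : P24) ∈ DD := fun x hx => by
      have m := hj.full.cent_duad _ card_023 (mem_centralizer_singleton_iff.2 hx)
      exact ⟨m, mem_DD'.2 ⟨(j.toMM.ψ x).2, by rw [ofMask_D]; exact (j.toMM.comm_duad_iff m card_023).1 hx⟩⟩
    have h1 : ∀ x ∈ normalizer (j.V : Set L), Odd (orderOf x) → (j.toMM.ψ x : P24) = 1 → x = 1 := fun x hx ox e =>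
      eq_one_of_odd_sq ox (j.toMM.V_sq ((j.toMM.ψ_eq_one_iff hx).1 (Subtype.ext e)))
    obtain ⟨m, d⟩ := hM w c
    obtain ⟨m', d'⟩ := hM w' c'
    by_cases e : (j.toMM.ψ w : P24) = 1
    · exact Or.inl (h1 w m o e)
    have := M22_le' (T := centralizer {(j.toMM.ψ w' : P24)}) d e fun g hg => by
      have k := j.toMM.κ_mem_M ⟨g, J4T.DD_le (M22_DD hg)⟩
      have e1 := congrArg j.toMM.ψ (hh _ ((j_kh hj).cd _ (κ22_H0 hg)))
      have m1 := mul_mem (mul_mem k m) (inv_mem k)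
      rw [j.toMM.ψ_mul m' m1, j.toMM.ψ_mul m1 m', j.toMM.ψ_conj k m, j.toMM.ψ_κ] at e1
      exact mem_centralizer_singleton_iff.2 (congrArg Subtype.val e1).symm
    exact Or.inr (h1 w' m' o' (eq_one_of_cent_M22 d' fun g hg =>
      (mem_centralizer_singleton_iff.1 (this hg)).symm))
  inn := V_le_wf0 hj ((j_kh hj).FH (j_kh hj).dF)
  fix := fun c _ hh => by
    have hV : ∀ a ∈ j.V, c * a = a * c := fun a ha =>
      hh a (V_le_wf0 hj ((j_kh hj).FH ha)) ⟨1, by rw [pow_one, pow_two, j.toMM.V_sq ha]⟩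
    have r1 : pm (rE 1) ∈ Spor.M22 := mem_M22.2 ⟨rE_mem (by norm_num), by
      rw [(pm_rp (isM_rE (x := 1) (by norm_num))).pt_eq (by norm_num)]
      congr 1⟩
    have r2 : pm (rE 1) ^ 2 = 1 := ((pm_rp (isM_rE (x := 1) (by norm_num))).powId_iff 2).1 (by decide +kernel)
    have n1 : pm (rE 1) ≠ 1 := fun e => by
      have := ((pm_rp (isM_rE (x := 1) (by norm_num))).isId_iff).2 e
      revert this; decide +kernel
    have := M22_le' (T := ((centralizer {c}).comap j.κ).map M24.subtype) (M22_DD r1) n1 fun g hg => by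
      have m := mul_mem (mul_mem hg r1) (inv_mem hg)
      refine ⟨⟨_, J4T.DD_le (M22_DD m)⟩, mem_centralizer_singleton_iff.2
        (hh _ (V_le_wf0 hj (κ22_H0 m)) ⟨1, ?_⟩).symm, rfl⟩
      rw [← map_pow, pow_one, ← map_one j.κ]
      congr 1
      apply Subtype.ext
      show (g * pm (rE 1) * g⁻¹) ^ 2 = 1
      rw [conj_pow, r2]; simp
    refine (j_kh hj).fix c ((j_ea hj).cent c hV) fun h hh' => ?_
    have le : H0 j.toMM ≤ centralizer {c} := (closure_le _).2 (by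
      rintro x (hx | ⟨g, g0, g1, rfl⟩)
      · exact mem_centralizer_singleton_iff.2 (hV x hx).symm
      · obtain ⟨g', hg', e⟩ := this (mem_M22.2 ⟨mem_DD.2 ⟨g.2, Or.inl ⟨g0, g1⟩⟩, g0⟩)
        rw [← Subtype.ext e]
        exact hg')
    exact mem_centralizer_singleton_iff.1 (le hh')

theorem cases (hj : j.Good) {u : L} (h2 : u * u = 1) (h1 : u ≠ 1) :
    ∃ g, u = g * z * g⁻¹ ∨ u = g * j.c {pt 0, pt 23} * g⁻¹ := by
  rcases hj.full.two u h1 h2 with h | h
  · obtain ⟨g, e⟩ := isConj_iff.1 h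
    exact ⟨g, Or.inl e.symm⟩
  · obtain ⟨g, e⟩ := isConj_iff.1 ((j.toMM.isConj_duad card_023 card_3).trans h)
    exact ⟨g, Or.inr e.symm⟩

theorem lc (hj : j.Good) {u : L} (h2 : u * u = 1) (h1 : u ≠ 1) : Lc u := by
  obtain ⟨g, rfl | rfl⟩ := cases hj h2 h1
  · exact (lc_z j.toHM).conj g
  · exact (lc_b hj).conj g

theorem cen (j : JM z) {c : L} (h : ∀ a, c * a = a * c) : c = 1 := by
  rcases cent_E j.toHM (fun q _ => h q) with e | e
  · exact e
  · obtain ⟨g, hg⟩ := isConj_iff.1 ((j.conj_E 1 (by norm_num) (by norm_num)).2 (by decide +kernel))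
    subst e
    rw [← h, mul_inv_cancel_right] at hg
    exact absurd hg.symm (j.s_ne 1 (by norm_num) (by norm_num)).2

theorem conj_inj (j : JM z) {a b : L} (h : MulAut.conj a = MulAut.conj b) : a = b := by
  have : b⁻¹ * a = 1 := cen j fun x => by
    have := DFunLike.congr_fun h x
    simp only [MulAut.conj_apply] at this
    calc _ = b⁻¹ * (a * x * a⁻¹) * a := by group
      _ = _ := by rw [this]; group
  rw [← mul_inv_cancel_left b a, ← mul_assoc, mul_assoc, this, mul_one]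

theorem gen_top [IsSimpleGroup L] (hj : j.Good) (P Q : Subgroup L) (hN : P ≤ normalizer (Q : Set L))
    (hr : ∃ r ∈ Q, r * r = 1 ∧ r ≠ 1)
    (h : ∀ r ∈ Q, r * r = 1 → r ≠ 1 → Wf (MulAut.conj r) ≤ Q ∧ centralizer {r} ≤ P) (hQP : Q ≤ P) : Q = ⊤ := by
  obtain ⟨r, hr, r2, r1⟩ := hr
  have h' : ∀ g u, g * u * g⁻¹ ∈ Q → u * u = 1 → u ≠ 1 →
      (∀ x ∈ Wf (MulAut.conj u), g * x * g⁻¹ ∈ Q) ∧ ∀ x, x * u = u * x → g * x * g⁻¹ ∈ P := fun g u a b c => by
    obtain ⟨d, e⟩ := h _ a (by rw [conj_mul, b]; simp) (by simpa using c)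
    exact ⟨fun x hx => d (wf_conj g hx), fun x hx => e (mem_centralizer_singleton_iff.2 (cc' g hx))⟩
  have b2 := j.toMM.c_sq (ev_two card_023)
  have b1 := (j_kh hj).dne
  obtain ⟨g, hg⟩ : ∃ g, g * j.c {pt 0, pt 23} * g⁻¹ ∈ Q := by
    obtain ⟨g, rfl | rfl⟩ := cases hj r2 r1
    · have := (h' g z hr j.toHM.zz j.toHM.z_ne).1 _ (E_le_wf j.toHM (j.toHM.s_mem (v := 14) (by norm_num)))
      rw [j.link_s 14 (by norm_num)] at this
      obtain ⟨k, e⟩ := isConj_iff.1 (j.toMM.isConj_duad card_023 JM.card_sm14)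
      exact ⟨g * k, by rw [← e] at this; simpa only [mul_inv_rev, mul_assoc] using this⟩
    · exact ⟨g, hr⟩
  have hV : ∀ x ∈ j.V, g * x * g⁻¹ ∈ Q := fun x hx =>
    (h' g _ hg b2 b1).1 x (V_le_wf0 hj ((j_kh hj).FH hx))
  have top : Tech.cj g⁻¹ P = ⊤ := by
    have mem : ∀ x, g * x * g⁻¹ ∈ P → x ∈ Tech.cj g⁻¹ P := fun x hx => Tech.mem_cj.2 (by simpa using hx)
    refine Rec.eq_top_of_le hj (fun x hx => ?_) fun x hx =>
      mem x ((h' g z (hV z j.toMM.z_mem) j.toHM.zz j.toHM.z_ne).2 x hx)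
    obtain ⟨a, ha, k, rfl⟩ := (j.mem_M x).1 hx
    refine mul_mem (mem _ (hQP (hV _ (j.toMM.c_mem ha)))) ?_
    have := Mathieu.simple_M24
    let N : Subgroup M24 := normalClosure {⟨pm qu, pm_mem isM_qu⟩}
    have le : N ≤ (Tech.cj g⁻¹ P).comap j.κ := (closure_le _).2 fun y hy => by
      obtain ⟨_, rfl, hy⟩ := Group.mem_conjugatesOfSet_iff.1 hy
      obtain ⟨s, rfl⟩ := isConj_iff.1 hy
      have hd : ((s : P24) • ofMask 8388609).card = 2 := by simpa using card_D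
      refine mem _ ((h' g _ (hV _ (j.toMM.c_mem (ev_two hd))) (j.toMM.c_sq (ev_two hd))
        (j.toMM.c_ne_one (ev_two hd) (by omega) (by omega))).2 _ ?_)
      refine j.toMM.comm_of_fix (j.toMM.κ_mem_M _) (ev_two hd) ?_
      rw [j.toMM.ψ_κ]
      show ((s : P24) * pm qu * (s : P24)⁻¹) • _ = _
      rw [mul_smul, mul_smul, inv_smul_smul, K.u0_D]
    have hn : N.Normal := normalClosure_normal
    rcases hn.eq_bot_or_eq_top with e | e
    · have m : (⟨pm qu, pm_mem isM_qu⟩ : M24) ∈ N := subset_normalClosure rfl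
      rw [e, mem_bot, Subtype.ext_iff] at m
      have := ((pm_rp isM_qu).isId_iff).2 m
      exact absurd this (by decide +kernel)
    · exact le (e ▸ mem_top k)
  have top' : P = ⊤ := by rw [← cj_cj_inv g P, top, cj_top]
  have hn : Q.Normal := normalizer_eq_top_iff.1 (top_le_iff.1 (top' ▸ hN))
  rcases hn.eq_bot_or_eq_top with e | e
  · exact absurd (by simpa [e] using hr) r1
  · exact e

end Jk

theorem j_inner (hj : j.Good) : Inner L := fun φ => by
  obtain ⟨l, e⟩ := hj.inner φ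
  exact ⟨l, e.symm⟩

theorem j_goodW [IsSimpleGroup L] (hj : j.Good) : StdW.GoodW L := by
  have key : ∀ φ : MulAut L, φ * φ = 1 → φ ≠ 1 → ∃ u, φ = MulAut.conj u ∧ Jk.Lc u ∧ u * u = 1 ∧ u ≠ 1 :=
    fun φ h2 h1 => by
      obtain ⟨u, rfl⟩ := j_inner hj φ
      have a : u * u = 1 := Jk.conj_inj j (by rw [map_mul, h2, map_one])
      have b : u ≠ 1 := fun e => h1 (by rw [e, map_one])
      exact ⟨u, rfl, Jk.lc hj a b, a, b⟩
  have cm : ∀ u a : L, MulAut.conj u a = a ↔ a * u = u * a := fun u a => by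
    rw [MulAut.conj_apply, mul_inv_eq_iff_eq_mul, eq_comm]
  have cen : ∀ c ∈ center L, c = 1 := fun c hc => Jk.cen j fun a => (mem_center_iff.1 hc a).symm
  refine ⟨fun c hc => by simp [cen c hc], fun φ _ => j_inner hj φ, fun φ h2 h1 w w' o o' c c' hh => ?_,
    fun φ h2 h1 => ?_, fun u h2 => ?_, fun P Q a b c d => Jk.gen_top hj P Q b c d a,
    fun φ ψ h2 h1 c t hh => ?_, fun φ _ h => ?_⟩
  · obtain ⟨u, rfl, l, -⟩ := key φ h2 h1
    refine (l.ind w w' o o' ((cm _ _).1 c) ((cm _ _).1 c') fun a ha => ?_).imp (fun e => by simp [e])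
      fun e => by simp [e]
    have := cen _ (hh a ((cm _ _).2 ha))
    rwa [mul_inv_eq_one, mul_inv_eq_iff_eq_mul] at this
  · obtain ⟨u, rfl, l, a, b⟩ := key φ h2 h1
    exact ⟨u, l.inn, a, b⟩
  · by_cases h1 : u = 1
    · rw [h1]; exact one_mem _
    · exact (Jk.lc hj h2 h1).inn
  · obtain ⟨u, rfl, l, -⟩ := key φ h2 h1
    obtain ⟨x, rfl⟩ := j_inner hj ψ
    refine (l.fix x (Jk.conj_inj j (by rw [map_mul, map_mul]; exact c.eq)) fun v hv h2 =>
      ((cm _ _).1 (hh v hv h2)).symm).imp (fun e => by rw [e, map_one]) fun e => by rw [e]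
  · obtain ⟨l, e⟩ := j_inner hj φ
    exact absurd e (h l)

end CfsgLib.WD
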