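import Mathlib
import Cfsg.Agent.Lib.WD.Can
import Cfsg.Agent.Lib.WD.JkA

/-!
# Wreath doubling: products over sets of points
-/

set_option autoImplicit false
set_option linter.unusedSectionVars false

namespace CfsgLib.WD.KapJ

open Subgroup Cfsg CfsgLib.Tech CfsgLib.StdInt CfsgLib.J4T CfsgLib.Golay CfsgLib.M24E
open scoped Pointwise

variable {L G : Type*} [Group L] [Group G] [Finite G] {ι : L →* G} {t : G} {Y : Subgroup G} {z : L}

theorem third (p q : GolayPt) : ∃ r, r ≠ p ∧ r ≠ q := by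
  obtain ⟨r, -, h⟩ := Finset.exists_mem_notMem_of_card_lt_card (s := {p, q}) (t := Finset.univ)
    (lt_of_le_of_lt Finset.card_le_two (by rw [Finset.card_univ, card_golayPt]; norm_num))
  exact ⟨r, by simpa using h⟩

theorem pair_eq {p q : GolayPt} (h : p ≠ q) : symmDiff ({p} : Finset GolayPt) {q} = {p, q} := by
  ext x
  simp only [Finset.mem_symmDiff, Finset.mem_singleton, Finset.mem_insert]
  constructor
  · rintro (⟨a, -⟩ | ⟨a, -⟩)
    · exact Or.inl a
    · exact Or.inr a
  · rintro (rfl | rfl)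
    · exact Or.inl ⟨rfl, h⟩
    · exact Or.inr ⟨rfl, h.symm⟩

theorem insert_eq {p : GolayPt} {s : Finset GolayPt} (h : p ∉ s) : insert p s = symmDiff {p} s := by
  ext x
  simp only [Finset.mem_symmDiff, Finset.mem_singleton, Finset.mem_insert]
  constructor
  · rintro (rfl | a)
    · exact Or.inl ⟨rfl, h⟩
    · exact Or.inr ⟨a, fun e => h (e ▸ a)⟩
  · rintro (⟨a, -⟩ | ⟨a, -⟩)
    · exact Or.inl a
    · exact Or.inr a

theorem mask_insert {i m : ℕ} (hi : i < 24) (h : m.testBit i = false) :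
    pt i ∉ ofMask m ∧ ofMask (2 ^ i ^^^ m) = insert (pt i) (ofMask m) := by
  have h1 : pt i ∉ ofMask m := by rw [pt_mem_ofMask hi, h]; simp
  refine ⟨h1, ?_⟩
  rw [insert_eq h1, ofMask_xor, ← ofMask_two_pow, ix_pt hi]

/-- a system of elements indexed by the ordered pairs of points -/
structure Sy (ι : L →* G) (t : G) (m : MM z) (x : GolayPt → GolayPt → G) : Prop where
  bv : ∀ p q, p ≠ q → Bv ι t m.V (x p q) (m.c {p, q})
  eqv : ∀ (g : M24) p q, p ≠ q → ι (m.κ g) * x p q * (ι (m.κ g))⁻¹ = x ((g : P24) p) ((g : P24) q)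
  mul : ∀ p q r, p ≠ q → q ≠ r → p ≠ r → x p q * x q r = x p r
  sq : ∀ p q r, p ≠ q → q ≠ r → p ≠ r → x p q * x p q * (x q r * x q r) = x p r * x p r

/-- a system of commuting elements indexed by the points -/
structure Fr (ι : L →* G) (t : G) (m : MM z) (a : GolayPt → G) : Prop where
  comm : ∀ p q, Commute (a p) (a q)
  bv : ∀ p, Bv ι t m.V (a p) (m.c (symmDiff {pt 0} {p}))
  eqv : ∀ (g : M24) p, ι (m.κ g) * a p * (ι (m.κ g))⁻¹ = (a ((g : P24) (pt 0)))⁻¹ * a ((g : P24) p)

variable {m : MM z} {x : GolayPt → GolayPt → G} {a : GolayPt → G}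

theorem Sy.inv (h : Sy ι t m x) {p q : GolayPt} (n : p ≠ q) : x p q * x q p = 1 := by
  obtain ⟨r, a, b⟩ := third p q
  have e := h.mul p q r n b.symm a.symm
  rw [← h.mul q p r n.symm a.symm b.symm, ← mul_assoc] at e
  exact mul_right_cancel (e.trans (one_mul _).symm)

theorem Sy.comm (h : Sy ι t m x) {p q r : GolayPt} (n1 : p ≠ q) (n2 : q ≠ r) (n3 : p ≠ r) :
    Commute (x p q) (x q r) := by
  have e := h.sq p q r n1 n2 n3
  rw [← h.mul p q r n1 n2 n3, mul_assoc, mul_assoc, mul_right_inj, ← mul_assoc, ← mul_assoc, mul_left_inj] at e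
  exact e

theorem Sy.exists_fr (h : Sy ι t m x) (w : W ι t Y) :
    ∃ a, Fr ι t m a ∧ a (pt 0) = 1 ∧ ∀ p q, p ≠ q → x p q = (a p)⁻¹ * a q := by
  classical
  obtain ⟨a, a0, a1⟩ : ∃ a : GolayPt → G, a (pt 0) = 1 ∧ ∀ p, pt 0 ≠ p → a p = x (pt 0) p :=
    ⟨fun p => if pt 0 = p then 1 else x (pt 0) p, by simp, fun p hp => if_neg hp⟩
  have key : ∀ p q, p ≠ q → x p q = (a p)⁻¹ * a q := fun p q n => by
    by_cases hp : pt 0 = p
    · subst hp; rw [a0, a1 q n]; simp
    by_cases hq : pt 0 = q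
    · subst hq; rw [a0, a1 p hp, mul_one]; exact eq_inv_of_mul_eq_one_right (h.inv hp)
    rw [a1 p hp, a1 q hq, ← h.mul _ p q hp n hq]; group
  refine ⟨a, ⟨fun p q => ?_, fun p => ?_, fun g p => ?_⟩, a0, key⟩
  · by_cases hp : pt 0 = p
    · subst hp; rw [a0]; exact Commute.one_left _
    by_cases hq : pt 0 = q
    · subst hq; rw [a0]; exact Commute.one_right _
    by_cases n : p = q
    · rw [n]
    have := h.comm (Ne.symm hp) hq n
    rw [key _ _ (Ne.symm hp), a0, mul_one, ← a1 q hq] at this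
    exact Commute.inv_left_iff.1 this
  · by_cases hp : pt 0 = p
    · subst hp
      rw [a0, sd_self, m.c_empty]
      exact bv_Y w (one_mem Y)
    · rw [a1 p hp, pair_eq hp]; exact h.bv _ _ hp
  · by_cases hp : pt 0 = p
    · subst hp; rw [a0]; simp
    · rw [a1 p hp, h.eqv g _ _ hp, key _ _ fun e => hp ((g : P24).injective e)]

/-- the product over a set of points -/
noncomputable def Fr.P (h : Fr ι t m a) (s : Finset GolayPt) : G := s.noncommProd a fun p _ q _ _ => h.comm p q

namespace Fr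

variable (h : Fr ι t m a)

theorem P_empty : h.P ∅ = 1 := Finset.noncommProd_empty _ _

theorem P_insert {p : GolayPt} {s : Finset GolayPt} (hp : p ∉ s) : h.P (insert p s) = a p * h.P s :=
  Finset.noncommProd_insert_of_notMem _ _ _ _ hp

theorem P_comm {g : G} (hg : ∀ p, Commute g (a p)) (s : Finset GolayPt) : Commute g (h.P s) :=
  Finset.noncommProd_commute _ _ _ _ fun p _ => hg p

theorem a_P (p : GolayPt) (s : Finset GolayPt) : Commute (a p) (h.P s) := h.P_comm (h.comm p) s

theorem P_P (s s' : Finset GolayPt) : Commute (h.P s) (h.P s') := h.P_comm (fun p => (h.a_P p s).symm) s'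

theorem P_pow {n : ℕ} (hn : ∀ p, a p ^ n = 1) (s : Finset GolayPt) : h.P s ^ n = 1 := by
  induction s using Finset.induction_on with
  | empty => rw [P_empty, one_pow]
  | insert p s hp ih => rw [h.P_insert hp, (h.a_P p s).mul_pow, hn, ih, one_mul]

theorem P_eqv (g : M24) (s : Finset GolayPt) :
    ι (m.κ g) * h.P s * (ι (m.κ g))⁻¹ = (a ((g : P24) (pt 0)))⁻¹ ^ s.card * h.P ((g : P24) • s) := by
  induction s using Finset.induction_on with
  | empty => simp [P_empty]
  | insert p s hp ih =>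
    have hp' : (g : P24) p ∉ (g : P24) • s := fun e => hp (Finset.smul_mem_smul_finset_iff _ |>.1 e)
    rw [h.P_insert hp, ← conj_mul, ih, h.eqv, Finset.smul_finset_insert, Finset.card_insert_of_notMem hp,
      show (g : P24) • p = (g : P24) p from rfl, h.P_insert hp', pow_succ', mul_assoc, mul_assoc, ← mul_assoc (a _),
      ((h.comm _ _).inv_right.pow_right _).eq, mul_assoc]

theorem P_bv' (w : W ι t Y) (s : Finset GolayPt) : (Even s.card → Bv ι t m.V (h.P s) (m.c s)) ∧
    (Even (symmDiff {pt 0} s).card → Bv ι t m.V (h.P s) (m.c (symmDiff {pt 0} s))) := by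
  have par : ∀ (p : GolayPt) (s : Finset GolayPt), Even (symmDiff {p} s).card ↔ ¬ Even s.card := fun p s => by
    by_cases hp : p ∈ s
    · obtain ⟨s', hs, rfl⟩ : ∃ s', p ∉ s' ∧ s = insert p s' :=
        ⟨s.erase p, Finset.notMem_erase p s, (Finset.insert_erase hp).symm⟩
      rw [Finset.card_insert_of_notMem hs, insert_eq hs, symmDiff_symmDiff_cancel_left, Nat.even_add_one, not_not]
    · rw [← insert_eq hp, Finset.card_insert_of_notMem hp, Nat.even_add_one]
  induction s using Finset.induction_on with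
  | empty =>
    refine ⟨fun _ => ?_, fun e => absurd ev_empty ((par _ _).1 e)⟩
    rw [P_empty, m.c_empty]
    exact bv_Y w (one_mem Y)
  | insert p s hp ih =>
    rw [h.P_insert hp, insert_eq hp]
    refine ⟨fun e => ?_, fun e => ?_⟩
    · have e' := (par (pt 0) s).2 ((par p s).1 e)
      have := (h.bv p).mul (ih.2 e')
      rwa [← m.c_mul _ _ (ev_pts _ _) e', symmDiff_comm ({pt 0} : Finset GolayPt) {p}, symmDiff_assoc,
        symmDiff_symmDiff_cancel_left] at this
    · have e' : Even s.card := by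
        by_contra n
        exact (par _ _).1 e ((par p s).2 n)
      have := (h.bv p).mul (ih.1 e')
      rwa [← m.c_mul _ _ (ev_pts _ _) e', symmDiff_assoc] at this

theorem P_bv (w : W ι t Y) {s : Finset GolayPt} (hs : Even s.card) : Bv ι t m.V (h.P s) (m.c s) :=
  (h.P_bv' w s).1 hs

include h in
theorem eq_ι (w : W ι t Y) (e : EA m.V) {g : G} (hg : Bv ι t m.V g 1) (h2 : Two g) (c : ∀ p, Commute (a p) g) :
    ∃ v ∈ m.V, g = ι v := by
  obtain ⟨v, hv, rfl | rfl⟩ := hg.two_one w e h2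
  · exact ⟨v, hv, rfl⟩
  · exfalso
    have b := h.bv (pt 23)
    have c1 : Commute (a (pt 23)) (ι v) := b.2.1 v hv
    have c2 : Commute (a (pt 23)) t := by simpa using c1.inv_right.mul_right (c (pt 23))
    have e1 := b.2.2
    rw [c2.eq, mul_inv_cancel_right, left_eq_mul, ← map_one ι, pair_eq pt0_ne] at e1
    have hd : ({pt 0, pt 23} : Finset GolayPt).card = 2 := Finset.card_pair pt0_ne
    exact m.c_ne_one (ev_two hd) (by omega) (by omega) (w.inj e1)

theorem P_sd (sq : ∀ p, a p * a p = 1) (s s' : Finset GolayPt) : h.P (symmDiff s s') = h.P s * h.P s' := by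
  have one : ∀ (p : GolayPt) (s : Finset GolayPt), h.P (symmDiff {p} s) = a p * h.P s := fun p s => by
    by_cases hp : p ∈ s
    · obtain ⟨s', hs, rfl⟩ : ∃ s', p ∉ s' ∧ s = insert p s' :=
        ⟨s.erase p, Finset.notMem_erase p s, (Finset.insert_erase hp).symm⟩
      rw [h.P_insert hs, insert_eq hs, symmDiff_symmDiff_cancel_left, ← mul_assoc, sq, one_mul]
    · rw [← insert_eq hp, h.P_insert hp]
  induction s using Finset.induction_on with
  | empty => rw [empty_sd, P_empty, one_mul]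
  | insert p s hp ih => rw [h.P_insert hp, insert_eq hp, symmDiff_assoc, one, ih, mul_assoc]

end Fr

end CfsgLib.WD.KapJ
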