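import Mathlib
import Cfsg.Agent.Lib.WD.Can
import Cfsg.Agent.Lib.WD.JkA
import Cfsg.Agent.Lib.WD.KapJ1
import Cfsg.Agent.Lib.M24E.Pairs

/-!
# Wreath doubling: the doubling of the cocode module
-/

set_option autoImplicit false
set_option linter.unusedSectionVars false

namespace CfsgLib.WD

open Subgroup Cfsg CfsgLib.Tech CfsgLib.StdInt CfsgLib.J4T CfsgLib.Golay CfsgLib.M24E
open scoped Pointwise

variable {L G : Type*} [Group L] [Group G] [Finite G] {ι : L →* G} {t : G} {Y : Subgroup G} {z : L} {j : JM z}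

namespace KapJ

variable {m : MM z} {a : GolayPt → G}

theorem caseA (w : W ι t Y) (e : EA m.V) (h : Fr ι t m a) (sq : ∀ p, a p * a p = 1)
    (cY : ∀ p, ∀ y ∈ Y, a p * y = y * a p) : ∃ κ, Kap ι t Y m.V κ := by
  classical
  have PP : ∀ s, h.P s * h.P s = 1 := fun s => by rw [← h.P_sd sq, sd_self, h.P_empty]
  have eqv : ∀ (g : M24) (s : Finset GolayPt), Even s.card →
      ι (m.κ g) * h.P s * (ι (m.κ g))⁻¹ = h.P ((g : P24) • s) := fun g s ⟨k, hk⟩ => by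
    rw [h.P_eqv, hk, ← two_mul, pow_mul, inv_pow, pow_two, sq, inv_one, one_pow, one_mul]
  have h0 : h.P (ofMask o0) = 1 := by
    have b := h.P_bv w (ev_code o0_mem.1)
    rw [(m.c_eq_one _ (ev_code o0_mem.1)).2 o0_mem.1] at b
    obtain ⟨v, hv, e1⟩ := h.eq_ι w e b ⟨1, by rw [pow_one, pow_two, PP]⟩ fun p => h.a_P p _
    rw [e1, j_fixO m hv fun g hg => ?_, map_one]
    have := eqv g _ (ev_code o0_mem.1)
    rw [hg, e1, ← map_inv, ← map_mul, ← map_mul] at this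
    exact mul_inv_eq_iff_eq_mul.1 (w.inj this)
  have h1 : ∀ o ∈ octads, h.P o = 1 := fun o ho => by
    obtain ⟨g, hg, e1⟩ := octad_trans o ho
    obtain ⟨g', hg', e2⟩ := octad_trans _ o0_mem
    have := eqv ⟨g * g'⁻¹, mul_mem hg (inv_mem hg')⟩ _ (ev_code o0_mem.1)
    rw [h0, mul_one, mul_inv_cancel, ← e2] at this
    rw [this, ← e1]
    congr 1
    show _ = (g * g'⁻¹) • _
    rw [mul_smul, inv_smul_smul]
  have h2 : ∀ s ∈ codeSets, h.P s = 1 := fun s hs =>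
    codeSets_induction_basis (P := fun s => h.P s = 1) h.P_empty (fun b hb => h1 _ (basisMasks_octads b hb))
      (fun s s' a b => by rw [h.P_sd sq, a, b, one_mul]) hs
  obtain ⟨κ, hκ⟩ : ∃ κ : L → G, ∀ s, Even s.card → κ (m.c s) = h.P s := by
    refine ⟨fun x => if hx : ∃ s, Even s.card ∧ x = m.c s then h.P hx.choose else 1, fun s hs => ?_⟩
    have ex : ∃ s', Even s'.card ∧ m.c s = m.c s' := ⟨s, hs, rfl⟩
    have := h2 _ ((m.c_eq_iff hs ex.choose_spec.1).1 ex.choose_spec.2)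
    rw [h.P_sd sq, ← PP s, mul_right_inj] at this
    simp only [dif_pos ex, this]
  refine ⟨κ, fun x hx y hy => ?_, fun x hx y hy => ?_, fun x hx => ?_, fun n hn x hx => ?_, fun x hx y hy => ?_⟩
  all_goals obtain ⟨s, hs, rfl⟩ := (m.mem_V x).1 hx
  · obtain ⟨s', hs', rfl⟩ := (m.mem_V y).1 hy
    rw [← m.c_mul _ _ hs hs', hκ _ (ev_sd hs hs'), hκ _ hs, hκ _ hs', h.P_sd sq]
  · rw [hκ _ hs]
    exact (h.P_bv w hs).2.1 y hy
  · have b := h.P_bv w hs
    rw [hκ _ hs, mul_assoc, b.t_mul, ← mul_assoc, ← mul_assoc, w.sq, one_mul, b.2.1 _ hx]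
  · obtain ⟨b, hb, g, rfl⟩ := (m.mem_M n).1 hn
    have hs' := ev_smul (g : P24) hs
    rw [m.act hb g hs, hκ _ hs, hκ _ hs', map_mul, mul_inv_rev, mul_assoc (ι _), mul_assoc (ι _), ← mul_assoc _ _ (ι _)⁻¹,
      eqv g s hs, ← mul_assoc, ← (h.P_bv w hs').2.1 _ (m.c_mem hb), mul_inv_cancel_right]
  · rw [hκ _ hs]
    exact (h.P_comm (fun p => (cY p y hy).symm) s).symm

theorem caseB (w : W ι t Y) (e : EA m.V) (h : Fr ι t m a) (a0 : a (pt 0) = 1)
    (sq : ∀ p q, p ≠ q → (a p)⁻¹ * a q * ((a p)⁻¹ * a q) = ι (m.c {p, q})) : False := by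
  have four : ∀ p, a p ^ 4 = 1 := fun p => by
    by_cases hp : pt 0 = p
    · rw [← hp, a0, one_pow]
    · have := sq _ _ hp
      rw [a0, inv_one, one_mul] at this
      rw [show 4 = 2 * 2 from rfl, pow_mul, pow_two (a p), this, pow_two, ← map_mul,
        m.c_sq (ev_two (Finset.card_pair hp)), map_one]
  have cd : ∀ {k : ℕ}, k < 2 ^ 24 → pc k = 4 → (ofMask k).card = 4 := fun a b => by rw [card_ofMask a, b]
  have c0 : (ofMask 53).card = 4 := cd (by norm_num) (by decide +kernel)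
  have c3 : (ofMask 8391744).card = 4 := cd (by norm_num) (by decide +kernel)
  have eqv : ∀ g : M24, ι (m.κ g) * ((h.P (ofMask 53))⁻¹ * h.P (ofMask 8391744)) * (ι (m.κ g))⁻¹ =
      (h.P ((g : P24) • ofMask 53))⁻¹ * h.P ((g : P24) • ofMask 8391744) := fun g => by
    rw [← conj_mul, ← conj_inv, h.P_eqv, h.P_eqv, c0, c3]
    group
  have eqv' : ∀ q k k', isM q = true → img (ap q) 53 = k → img (ap q) 8391744 = k' → ∀ v,
      (h.P (ofMask 53))⁻¹ * h.P (ofMask 8391744) = ι v → ∃ g : M24, (g : P24) • ofMask 53 = ofMask k ∧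
        (h.P (ofMask k))⁻¹ * h.P (ofMask k') = ι (m.κ g * v * (m.κ g)⁻¹) := fun q k k' hq e1 e2 v hv => by
    have := eqv ⟨pm q, pm_mem hq⟩
    have f1 : pm q • ofMask 53 = ofMask k := by rw [← (pm_rp hq).ofMask_img, e1]
    have f2 : pm q • ofMask 8391744 = ofMask k' := by rw [← (pm_rp hq).ofMask_img, e2]
    rw [hv, f1, f2, ← map_inv, ← map_mul, ← map_mul] at this
    exact ⟨⟨pm q, pm_mem hq⟩, f1, this.symm⟩
  have b := ((h.P_bv w (ev_four c0)).inv e).mul (h.P_bv w (ev_four c3))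
  rw [← m.c_mul _ _ (ev_four c0) (ev_four c3), ← ofMask_xor, (m.c_eq_one _ (ev_mask (by decide +kernel)
    (by decide +kernel))).2 (mem_of_isCode (by decide +kernel))] at b
  obtain ⟨v, hv, e1⟩ := h.eq_ι w e b ⟨2, by
    rw [(h.P_P _ _).inv_left.mul_pow, inv_pow, show 2 ^ 2 = 4 from rfl, h.P_pow four, h.P_pow four]; simp⟩
    fun p => (h.a_P p _).inv_right.mul_right (h.a_P p _)
  rcases j_fixT m hv (fun g g1 g2 => by
    have := eqv g
    rw [g1, g2, e1, ← map_inv, ← map_mul, ← map_mul] at this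
    exact mul_inv_eq_iff_eq_mul.1 (w.inj this)) with rfl | rfl
  · obtain ⟨g, -, e2⟩ := eqv' 0x5c8f56c42e62614516687dcc4b0860 (2 ^ 6 ^^^ 21) (2 ^ 5 ^^^ 8391680)
      (by decide +kernel) (by decide +kernel) (by decide +kernel) _ e1
    obtain ⟨n1, i1⟩ := mask_insert (i := 5) (m := 21) (by norm_num) (by decide +kernel)
    obtain ⟨n2, i2⟩ := mask_insert (i := 6) (m := 21) (by norm_num) (by decide +kernel)
    obtain ⟨n3, i3⟩ := mask_insert (i := 5) (m := 8391680) (by norm_num) (by decide +kernel)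
    obtain ⟨n4, i4⟩ := mask_insert (i := 6) (m := 8391680) (by norm_num) (by decide +kernel)
    rw [i2, i3, h.P_insert n2, h.P_insert n3, mul_one, mul_inv_cancel, map_one, inv_mul_eq_one] at e2
    rw [show 53 = 2 ^ 5 ^^^ 21 by decide +kernel, show 8391744 = 2 ^ 6 ^^^ 8391680 by decide +kernel, i1, i4,
      h.P_insert n1, h.P_insert n4, map_one, inv_mul_eq_one] at e1
    have n : pt 5 ≠ pt 6 := fun e => absurd ((pt_inj (by norm_num) (by norm_num)).1 e) (by norm_num)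
    have hd := Finset.card_pair n
    refine m.c_ne_one (ev_two hd) (by omega) (by omega) (w.inj ?_)
    rw [← sq _ _ n, map_one]
    have f1 : (a (pt 5))⁻¹ * a (pt 6) = h.P (ofMask 21) * (h.P (ofMask 8391680))⁻¹ := by
      rw [inv_mul_eq_iff_eq_mul, ← mul_assoc, e1, mul_inv_cancel_right]
    have f2 : (a (pt 6))⁻¹ * a (pt 5) = h.P (ofMask 21) * (h.P (ofMask 8391680))⁻¹ := by
      rw [inv_mul_eq_iff_eq_mul, ← mul_assoc, e2, mul_inv_cancel_right]
    nth_rewrite 1 [f1, ← f2]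
    group
  · obtain ⟨g, g1, e2⟩ := eqv' 0xd50e20acf3c2349a403649776a8a6 8391744 786946
      (by decide +kernel) (by decide +kernel) (by decide +kernel) _ e1
    obtain ⟨g', g1', e3⟩ := eqv' 0x4d21671ee67a22b94daa6048518aa0 53 786946
      (by decide +kernel) (by decide +kernel) (by decide +kernel) _ e1
    rw [m.conj _ _ (ev_four c0), g1] at e2
    rw [m.conj _ _ (ev_four c0), g1', ← e1, mul_right_inj] at e3
    rw [← e3, inv_mul_cancel, ← map_one ι] at e2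
    exact m.c_ne_one (ev_four c3) (by omega) (by omega) (w.inj e2).symm

theorem trans2 {p q : GolayPt} (n : p ≠ q) : ∃ g : M24, (g : P24) (pt 0) = p ∧ (g : P24) (pt 23) = q := by
  obtain ⟨g, hg, e⟩ := list_trans [pt 0, pt 23] [p, q] (by simp [pt0_ne]) (by simp [n]) (by simp) rfl
  exact ⟨⟨g, hg⟩, by simpa using e⟩

theorem exists_k (w : W ι t Y) (hj : j.Good) {b : G} (hb : Bv ι t j.V b (j.c {pt 0, pt 23})) :
    ∃ k : GolayPt → GolayPt → G, (∀ p q, p ≠ q → Bv ι t j.V (k p q) (j.c {p, q}) ∧ k p q * k p q = 1) ∧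
      ∀ (g : M24) p q, p ≠ q → ι (j.κ g) * k p q * (ι (j.κ g))⁻¹ = k ((g : P24) p) ((g : P24) q) := by
  have : Finite L := Finite.of_injective _ w.inj
  obtain ⟨z1, b1, s1, c1⟩ := can0 w (j_ea hj) (j_kh hj) hb
  have ex : ∀ p q : GolayPt, ∃ g : M24, p ≠ q → (g : P24) (pt 0) = p ∧ (g : P24) (pt 23) = q := fun p q => by
    by_cases n : p = q
    · exact ⟨1, fun h => absurd n h⟩
    · exact (trans2 n).imp fun _ h _ => h
  choose f hf using ex
  refine ⟨fun p q => ι (j.κ (f p q)) * z1 * (ι (j.κ (f p q)))⁻¹, fun p q n => ⟨?_, ?_⟩, fun g p q n => ?_⟩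
  · have := b1.conj w (j.toMM.κ_mem_M (f p q))
    rwa [j.conj _ _ (ev_two (Finset.card_pair pt0_ne)), smul_pair, (hf p q n).1, (hf p q n).2] at this
  · rw [conj_mul, s1, mul_one, mul_inv_cancel]
  · have n' : (g : P24) p ≠ (g : P24) q := fun e => n ((g : P24).injective e)
    have := c1 (j.κ ((f ((g : P24) p) ((g : P24) q))⁻¹ * (g * f p q))) (subset_closure (Or.inr ⟨_, ?_, ?_, rfl⟩))
    · simp only [map_mul, map_inv] at this
      calc _ = ι (j.κ (f ((g : P24) p) ((g : P24) q))) * ((ι (j.κ (f ((g : P24) p) ((g : P24) q))))⁻¹ *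
            (ι (j.κ g) * ι (j.κ (f p q))) * z1) * (ι (j.κ (f p q)))⁻¹ * (ι (j.κ g))⁻¹ := by group
        _ = _ := by rw [this]; group
    · simp only [coe_mul, coe_inv, Equiv.Perm.mul_apply]
      rw [(hf p q n).1, Equiv.Perm.inv_eq_iff_eq, (hf _ _ n').1]
    · simp only [coe_mul, coe_inv, Equiv.Perm.mul_apply]
      rw [(hf p q n).2, Equiv.Perm.inv_eq_iff_eq, (hf _ _ n').2]

theorem c_tri (m : MM z) {p q r : GolayPt} (n1 : p ≠ q) (n2 : q ≠ r) (n3 : p ≠ r) :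
    m.c {p, q} * m.c {q, r} = m.c {p, r} := by
  rw [Finset.pair_comm p q]
  exact m.c_pair n1.symm n2 n3

theorem ind (m : MM z) (i k l : ℕ) (h : m.c {pt 0, pt 23} ^ i * m.c {pt 23, pt 1} ^ k * m.c {pt 1, pt 2} ^ l = 1) :
    Even i ∧ Even k ∧ Even l := by
  have red : ∀ (x y : ℕ), x < 24 → y < 24 → x ≠ y → ∀ n, m.c {pt x, pt y} ^ n =
      m.c (ofMask ((n % 2) * (2 ^ x ||| 2 ^ y))) := fun x y hx hy n i => by
    have s := m.c_sq (ev_two (Finset.card_pair fun e => n ((pt_inj hx hy).1 e)))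
    rcases Nat.even_or_odd' i with ⟨u, rfl | rfl⟩
    · rw [pow_mul, pow_two, s, one_pow, Nat.mul_mod_right, zero_mul, ofMask_zero, m.c_empty]
    · rw [pow_succ, pow_mul, pow_two, s, one_pow, one_mul, Nat.mul_add_mod, Nat.one_mod, one_mul, ofMask_pair hx hy]
  rw [red 0 23 (by norm_num) (by norm_num) (by norm_num), red 23 1 (by norm_num) (by norm_num) (by norm_num),
    red 1 2 (by norm_num) (by norm_num) (by norm_num)] at h
  simp only [Nat.even_iff]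
  have hi := Nat.mod_lt i two_pos
  have hk := Nat.mod_lt k two_pos
  have hl := Nat.mod_lt l two_pos
  generalize i % 2 = i at h hi
  generalize k % 2 = k at h hk
  generalize l % 2 = l at h hl
  have key : ∀ i < 2, ∀ k < 2, ∀ l < 2,
      (i * (2 ^ 0 ||| 2 ^ 23) < 2 ^ 24 ∧ pc (i * (2 ^ 0 ||| 2 ^ 23)) % 2 = 0) ∧
      (k * (2 ^ 23 ||| 2 ^ 1) < 2 ^ 24 ∧ pc (k * (2 ^ 23 ||| 2 ^ 1)) % 2 = 0) ∧
      (l * (2 ^ 1 ||| 2 ^ 2) < 2 ^ 24 ∧ pc (l * (2 ^ 1 ||| 2 ^ 2)) % 2 = 0) ∧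
      (i * (2 ^ 0 ||| 2 ^ 23) ^^^ k * (2 ^ 23 ||| 2 ^ 1) ^^^ l * (2 ^ 1 ||| 2 ^ 2) < 2 ^ 24) ∧
      (isCode (i * (2 ^ 0 ||| 2 ^ 23) ^^^ k * (2 ^ 23 ||| 2 ^ 1) ^^^ l * (2 ^ 1 ||| 2 ^ 2)) = true →
        i = 0 ∧ k = 0 ∧ l = 0) := fun i hi k hk l hl => by
    interval_cases i <;> interval_cases k <;> interval_cases l <;> decide +kernel
  obtain ⟨a, b, c, d, e⟩ := key i hi k hk l hl
  have a := ev_mask a.1 a.2
  have b := ev_mask b.1 b.2
  have c := ev_mask c.1 c.2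
  rw [← m.c_mul _ _ a b, ← m.c_mul _ _ (ev_sd a b) c, m.c_eq_one _ (ev_sd (ev_sd a b) c), ← ofMask_xor,
    ← ofMask_xor, ofMask_mem_iff d] at h
  exact e h

end KapJ

/-- KAPJ -/
theorem kapJ (w : W ι t Y) (hj : j.Good) {b : G} (hb : Bv ι t j.V b (j.c {pt 0, pt 23})) :
    ∃ κ, Kap ι t Y j.V κ := by
  have : Finite L := Finite.of_injective _ w.inj
  have e := j_ea hj
  obtain ⟨k, hk, eqv⟩ := KapJ.exists_k w hj hb
  have ne : ∀ x y : ℕ, x < 24 → y < 24 → x ≠ y → pt x ≠ pt y := fun x y a b n e => n ((pt_inj a b).1 e)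
  have n1 := pt0_ne
  have n2 : pt 23 ≠ pt 1 := ne _ _ (by norm_num) (by norm_num) (by norm_num)
  have n3 : pt 0 ≠ pt 1 := ne _ _ (by norm_num) (by norm_num) (by norm_num)
  obtain ⟨cY, h⟩ := can1 w e (fun p q => j.c {p, q}) k hk (fun p q r => KapJ.c_tri j.toMM) n1 n2 n3
    (s0 := pt 2) (ne _ _ (by norm_num) (by norm_num) (by norm_num)) (ne _ _ (by norm_num) (by norm_num) (by norm_num))
    (ne _ _ (by norm_num) (by norm_num) (by norm_num)) (KapJ.ind j.toMM)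
    (fun p q r a b c => by
      obtain ⟨g, hg, e⟩ := list_trans [pt 0, pt 23, pt 1] [p, q, r] (by simp [n1, n2, n3]) (by simp [a, b, c])
        (by simp) rfl
      obtain ⟨e1, e2, e3⟩ : g (pt 0) = p ∧ g (pt 23) = q ∧ g (pt 1) = r := by simpa using e
      refine ⟨j.κ ⟨g, hg⟩, j.toMM.κ_mem_M _, ?_, ?_, ?_⟩
      · rw [eqv _ _ _ n1, ← e1, ← e2]
      · rw [eqv _ _ _ n2, ← e2, ← e3]
      · rw [eqv _ _ _ n3, ← e1, ← e3])
    {c | ∃ g : M24, (g : P24) (pt 0) = pt 0 ∧ (g : P24) (pt 23) = pt 23 ∧ (g : P24) (pt 1) = pt 1 ∧ c = j.κ g}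
    (by
      rintro _ ⟨g, e1, e2, e3, rfl⟩
      refine ⟨mul_inv_eq_iff_eq_mul.1 ?_, mul_inv_eq_iff_eq_mul.1 ?_, mul_inv_eq_iff_eq_mul.1 ?_⟩
      · rw [eqv _ _ _ n1, e1, e2]
      · rw [eqv _ _ _ n2, e2, e3]
      · rw [eqv _ _ _ n3, e1, e3])
    (fun a ha h => j_fix3 j.toMM ha fun g e1 e2 e3 => h _ ⟨g, e1, e2, e3, rfl⟩)
  rcases h with h | h
  · have sy : KapJ.Sy ι t j.toMM k := ⟨fun p q n => (hk p q n).1, eqv, h, fun p q r a b c => by
      rw [(hk _ _ a).2, (hk _ _ b).2, (hk _ _ c).2, one_mul]⟩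
    obtain ⟨a, fr, a0, key⟩ := sy.exists_fr w
    have a1 : ∀ p, pt 0 ≠ p → a p = k (pt 0) p := fun p hp => by rw [key _ _ hp, a0, inv_one, one_mul]
    refine KapJ.caseA w e fr (fun p => ?_) fun p y hy => ?_
    · by_cases hp : pt 0 = p
      · rw [← hp, a0, one_mul]
      · rw [a1 p hp, (hk _ _ hp).2]
    · by_cases hp : pt 0 = p
      · rw [← hp, a0, one_mul, mul_one]
      · rw [a1 p hp, cY _ _ hp y hy]
  · have sq : ∀ p q, p ≠ q → k p q * t * (k p q * t) = ι (j.c {p, q}) := fun p q n => by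
      obtain ⟨b, s⟩ := hk p q n
      nth_rewrite 1 [b.t_mul]
      rw [mul_assoc, ← mul_assoc (k p q), s, one_mul, w.conj_ι]
    have sy : KapJ.Sy ι t j.toMM fun p q => k p q * t := ⟨fun p q n => by
      simpa using (hk p q n).1.mul (bv_t w), fun g p q n => by
        rw [← eqv g p q n, ← conj_mul, ← w.comm, mul_inv_cancel_right], h, fun p q r a b c => by
      rw [sq _ _ a, sq _ _ b, sq _ _ c, ← map_mul, KapJ.c_tri j.toMM a b c]⟩
    obtain ⟨a, fr, a0, key⟩ := sy.exists_fr w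
    exact (KapJ.caseB w e fr a0 fun p q n => by rw [← key p q n, sq p q n]).elim

end CfsgLib.WD
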