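import Mathlib
import Cfsg.Agent.Lib.WD.BasB

/-!
# Wreath doubling: the centraliser of `z` normalises the doubled extraspecial group
-/

set_option autoImplicit false

namespace CfsgLib.WD

open Subgroup Cfsg CfsgLib.Tech CfsgLib.StdInt

variable {L G : Type*} [Group L] [Group G] [Finite G] {ι : L →* G} {t : G} {Y : Subgroup G} {F S Q : Subgroup L} {κ σ : L → G}
  {C1 : Subgroup G} {p : G → L} {z : L}

namespace QdA

omit [Finite G]

theorem KQ.zS (q : KQ F S Q z) : z ∈ S := q.QS q.zQ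

theorem cm_ι {a b : L} (h : a * b = b * a) : Commute (ι a) (ι b) := (show Commute a b from h).map ι

theorem z1_Q (d : DN ι t F κ S σ C1 p) (q : KQ F S Q z) {s : L} (hs : s ∈ S) : Commute (ι s) (κ z) := by
  have := d.toDB.ι_conj hs (KQ.zS q)
  rw [q.Sz s hs, mul_inv_cancel_right, d.σF z q.zF] at this
  exact mul_inv_eq_iff_eq_mul.1 this

/-- an element centralising `t` and `ι Q` -/
theorem cent_Q (w : W ι t Y) (q : KQ F S Q z) {u : G} (h1 : u * t = t * u) (h2 : ∀ r ∈ Q, u * ι r = ι r * u) :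
    ∃ y ∈ Y, ∃ l, (l = 1 ∨ l = z) ∧ (u = y * ι l ∨ u = y * ι l * t) := by
  obtain ⟨y, hy, l, e1, e2⟩ := w.cent h1
  refine ⟨y, hy, l, q.cQ l fun r hr => mul_inv_eq_iff_eq_mul.1 (w.inj ?_), e1⟩
  rw [← e2, h2 r hr, mul_inv_cancel_right]

theorem not_t (k : Kap ι t Y F κ) (w : W ι t Y) (q : KQ F S Q z) : ¬ Commute t (κ z) := fun c => by
  have := k.act z q.zF
  rw [c.eq, w.tt', left_eq_mul] at this
  exact q.zne (w.inj (this.trans (map_one ι).symm))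

end QdA

open QdA

/-- QDA1 -/
theorem z1_comm (k : Kap ι t Y F κ) (w : W ι t Y) (e : EA F) (d : DN ι t F κ S σ C1 p) (q : KQ F S Q z) {h : L}
    (hh : h * z = z * h) : ι h * κ z = κ z * ι h := by
  have key : ∀ h, h * z = z * h → ∀ x, x * z = z * x → Commute ((ι h)⁻¹ * (κ z * ι h * (κ z)⁻¹)) (ι x) := by
    intro h hh x hx
    have b := (k.bv e w.sq q.zF).2.2
    have c1 : Commute (κ z * ι h * (κ z)⁻¹) (t * ι z) := b ▸ (show Commute (ι h) t from (w.comm h).symm).map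
      (MulAut.conj (κ z))
    have c2 : Commute (κ z * ι h * (κ z)⁻¹) (ι z) :=
      ((show Commute _ _ from k.cF z q.zF z q.zF).mul_left (cm_ι hh)).mul_left
        (show Commute _ _ from k.cF z q.zF z q.zF).inv_left
    have c3 : Commute (κ z * ι h * (κ z)⁻¹) t := by simpa using c1.mul_right c2.inv_right
    obtain ⟨y, hy, l, hl, e1⟩ := cent_Q w q (u := (ι h)⁻¹ * (κ z * ι h * (κ z)⁻¹))
      ((show Commute (ι h) t from (w.comm h).symm).inv_left.mul_left c3) fun r hr => by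
        have a1 := (z1_Q d q (q.QS hr)).eq
        have a2 := (z1_Q d q (q.QS (conj_mem_of_mem_normalizer (q.nQ h hh) hr))).eq
        rw [map_mul, map_mul, map_inv] at a2
        calc _ = (ι h)⁻¹ * (κ z * ι h * (κ z)⁻¹ * (ι r * κ z)) * (κ z)⁻¹ := by group
          _ = (ι h)⁻¹ * (κ z * (ι h * ι r * (ι h)⁻¹)) * ι h * (κ z)⁻¹ := by rw [a1]; group
          _ = _ := by rw [← a2]; group
    have a : Commute (y * ι l) (ι x) := (show Commute _ _ from w.yl y hy x).mul_left (cm_ι (by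
      rcases hl with rfl | rfl
      exacts [by simp, hx.symm]))
    rcases e1 with e1 | e1 <;> rw [e1]
    exacts [a, a.mul_left (w.comm x)]
  let N : Subgroup L := centralizer {z} ⊓ (centralizer {κ z}).comap ι
  have mem : ∀ {x}, x ∈ N ↔ x * z = z * x ∧ ι x * κ z = κ z * ι x :=
    and_congr mem_centralizer_singleton_iff mem_centralizer_singleton_iff
  refine (mem.1 (q.ncl N (fun m hm c => mem.2 ⟨c, ?_⟩) (fun h hh x hx => ?_) h hh)).2
  · have := k.eqv m hm z q.zF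
    rw [c, mul_inv_cancel_right] at this
    exact mul_inv_eq_iff_eq_mul.1 this
  · obtain ⟨a, b⟩ := mem.1 hx
    refine mem.2 ⟨((show Commute h z from hh).mul_left a).mul_left (show Commute h z from hh).inv_left, ?_⟩
    have c := (key h hh x a).eq
    rw [map_mul, map_mul, map_inv]
    calc _ = ι h * (ι x * ((ι h)⁻¹ * (κ z * ι h * (κ z)⁻¹))) * κ z * (ι h)⁻¹ := by group
      _ = κ z * ι h * (κ z)⁻¹ * (ι x * κ z) * (ι h)⁻¹ := by rw [← c]; group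
      _ = _ := by rw [b]; group

namespace QdA

theorem step (k : Kap ι t Y F κ) (w : W ι t Y) (e : EA F) (d : DN ι t F κ S σ C1 p) (q : KQ F S Q z) {h : L}
    (hh : h * z = z * h) {v : L} (hv : v ∈ F ⊓ Q) :
    ∃ j, (j = 1 ∨ j = z) ∧ σ (h * v * h⁻¹) = ι h * κ v * (ι h)⁻¹ * ι j := by
  have hq : h * v * h⁻¹ ∈ Q := conj_mem_of_mem_normalizer (q.nQ h hh) hv.2
  have zS := KQ.zS q
  have z1 := z1_comm k w e d q hh
  have ht : Commute (ι h) t := (w.comm h).symm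
  have q2 : h * v * h⁻¹ * (h * v * h⁻¹) = 1 := by rw [conj_mul, e.sq v hv.1]; simp
  have a1 : ι h * κ v * (ι h)⁻¹ * t * (ι h * κ v * (ι h)⁻¹)⁻¹ = t * ι (h * v * h⁻¹) := by
    calc _ = ι h * (κ v * ((ι h)⁻¹ * t * ι h) * (κ v)⁻¹) * (ι h)⁻¹ := by group
      _ = _ := by
        rw [ht.inv_left.eq, inv_mul_cancel_right, (k.bv e w.sq hv.1).2.2, ← mul_assoc, ht.eq, map_mul, map_mul, map_inv]
        group
  have a2 := d.toDB.conj_t w (q.QS hq) q2
  obtain ⟨y, hy, l, hl, e1⟩ := cent_Q w q (u := (ι h * κ v * (ι h)⁻¹)⁻¹ * σ (h * v * h⁻¹))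
    (mul_inv_eq_iff_eq_mul.1 (by
      calc _ = (ι h * κ v * (ι h)⁻¹)⁻¹ * (σ (h * v * h⁻¹) * t * (σ (h * v * h⁻¹))⁻¹) * (ι h * κ v * (ι h)⁻¹) := by group
        _ = _ := by rw [a2, ← a1]; group)) fun r hr => by
      have hr' : h⁻¹ * r * h ∈ Q := conj_mem_of_mem_normalizer' (q.nQ h hh) hr
      have b1 := d.toDB.ι_conj (q.QS hr) (q.QS hq)
      have b2 := d.toDB.ι_conj (q.QS hr') (q.QS hv.2)
      have b3 : ι r * (ι h * κ v * (ι h)⁻¹) * (ι r)⁻¹ = ι h * σ (h⁻¹ * (r * (h * v * h⁻¹) * r⁻¹) * h) * (ι h)⁻¹ := by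
        rw [show h⁻¹ * (r * (h * v * h⁻¹) * r⁻¹) * h = h⁻¹ * r * h * v * (h⁻¹ * r * h)⁻¹ by group, ← b2,
          d.σF v hv.1, map_mul, map_mul, map_inv]
        group
      refine (mul_inv_eq_iff_eq_mul.1 ?_).symm
      rw [← conj_mul, ← conj_inv, b1, b3]
      rcases q.com _ hq r hr with c | c <;> rw [c]
      · rw [show h⁻¹ * (h * v * h⁻¹) * h = v by group, d.σF v hv.1]
      · rw [show h⁻¹ * (z * (h * v * h⁻¹)) * h = h⁻¹ * (z * h) * v by group, ← hh, inv_mul_cancel_left,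
          d.mul z zS v (q.QS hv.2), d.mul z zS _ (q.QS hq), d.σF v hv.1, d.σF z q.zF, ← mul_assoc (ι h), z1]
        group
  have lF : l ∈ F := hl.elim (· ▸ one_mem _) (· ▸ q.zF)
  have hl' : Commute (ι h) (ι l) := cm_ι (by rcases hl with rfl | rfl; exacts [by simp, hh])
  have c1 : Commute (ι h * κ v * (ι h)⁻¹) (κ z) :=
    ((show Commute _ _ from z1).mul_left (k.comm e hv.1 q.zF)).mul_left (show Commute _ _ from z1).inv_left
  have c2 : Commute (σ (h * v * h⁻¹)) (κ z) := by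
    rw [← d.σF z q.zF]
    exact (d.mul _ (q.QS hq) z zS).symm.trans ((congrArg σ (q.Sz _ (q.QS hq))).trans (d.mul z zS _ (q.QS hq)))
  have c3 : Commute (y * ι l) (κ z) :=
    (show Commute _ _ from (k.cY z q.zF y hy).symm).mul_left (k.cF z q.zF l lF).symm
  have e2 : σ (h * v * h⁻¹) = ι h * κ v * (ι h)⁻¹ * (y * ι l) := by
    refine inv_mul_eq_iff_eq_mul.1 (e1.resolve_right fun e1 => not_t k w q ?_)
    have := c3.inv_left.mul_left (e1 ▸ c1.inv_left.mul_left c2)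
    rwa [inv_mul_cancel_left] at this
  have c4 : Commute (ι h * κ v * (ι h)⁻¹) y :=
    ((show Commute _ _ from (w.yl y hy h).symm).mul_left (k.cY v hv.1 y hy)).mul_left
      (show Commute _ _ from (w.yl y hy h).symm).inv_left
  have c5 : Commute (ι h * κ v * (ι h)⁻¹) (ι l) := (hl'.mul_left (k.cF v hv.1 l lF)).mul_left hl'.inv_left
  have e3 := d.mul _ (q.QS hq) _ (q.QS hq)
  rw [q2, d.toDB.one, e2, (c4.mul_right c5).symm.mul_mul_mul_comm, conj_mul, k.sq e hv.1,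
    (show Commute _ _ from w.yl y hy l).symm.mul_mul_mul_comm, ← map_mul, e.sq l lF] at e3
  refine ⟨l, hl, ?_⟩
  rw [e2, eq_one_of_odd_sq (w.yodd y hy) (by simpa using e3.symm), one_mul]

theorem step2 (k : Kap ι t Y F κ) (w : W ι t Y) (e : EA F) (d : DN ι t F κ S σ C1 p) (q : KQ F S Q z) {h : L}
    (hh : h * z = z * h) {v : L} (hv : v ∈ F ⊓ Q) : ι h * σ v * (ι h)⁻¹ = σ (h * v * h⁻¹) := by
  have hq : ∀ {v}, v ∈ F ⊓ Q → h * v * h⁻¹ ∈ S := fun hv => q.QS (conj_mem_of_mem_normalizer (q.nQ h hh) hv.2)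
  let J : Subgroup L :=
    { carrier := {v | v ∈ F ⊓ Q ∧ ι h * σ v * (ι h)⁻¹ = σ (h * v * h⁻¹)}
      one_mem' := ⟨one_mem _, by simp [d.toDB.one]⟩
      mul_mem' := fun a b => ⟨mul_mem a.1 b.1, by
        rw [d.mul _ (q.QS a.1.2) _ (q.QS b.1.2), ← conj_mul, ← conj_mul, a.2, b.2, d.mul _ (hq a.1) _ (hq b.1)]⟩
      inv_mem' := fun a => by rwa [e.inv a.1.1] }
  obtain ⟨ρ, r1, r2, r3, r4⟩ := q.rho h hh
  refine (show v ∈ J from (closure_le J).2 ?_ (r4 hv)).2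
  rintro _ (rfl | ⟨a, ha, rfl⟩)
  · refine ⟨⟨q.zF, q.zQ⟩, ?_⟩
    rw [hh, mul_inv_cancel_right, d.σF _ q.zF, z1_comm k w e d q hh, mul_inv_cancel_right]
  have c : h⁻¹ * ρ * h * z = z * (h⁻¹ * ρ * h) :=
    ((show Commute h z from hh).inv_left.mul_left r2).mul_left hh
  have ha' : h⁻¹ * ρ * h * a * (h⁻¹ * ρ * h)⁻¹ ∈ F ⊓ Q :=
    ⟨conj_mem_of_mem_normalizer r3 ha.1, conj_mem_of_mem_normalizer (q.nQ _ c) ha.2⟩
  obtain ⟨j, j1, j2⟩ := step k w e d q hh ha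
  obtain ⟨j', j3, j4⟩ := step k w e d q hh ha'
  have jF : j ∈ F := j1.elim (· ▸ one_mem _) (· ▸ q.zF)
  have jF' : j' ∈ F := j3.elim (· ▸ one_mem _) (· ▸ q.zF)
  have cj : ∀ {x}, x * z = z * x → Commute (ι x) (ι j) := fun hx =>
    cm_ι (by rcases j1 with rfl | rfl; exacts [by simp, hx])
  have e1 : h * (h⁻¹ * ρ * h * a * (h⁻¹ * ρ * h)⁻¹) * h⁻¹ = ρ * (h * a * h⁻¹) * ρ⁻¹ := by group
  have e2 : ι h * κ (h⁻¹ * ρ * h * a * (h⁻¹ * ρ * h)⁻¹) * (ι h)⁻¹ = ι ρ * (ι h * κ a * (ι h)⁻¹) * (ι ρ)⁻¹ := by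
    rw [← k.eqv _ r3 a ha.1, map_mul, map_mul, map_inv]; group
  have o := d.eqv ρ r1 _ (hq ha) (e1 ▸ hq ha')
  rw [← e1, j2, j4, e2, ← conj_mul, (cj r2).eq, mul_inv_cancel_right, mul_inv_rev, mul_assoc _ (ι j), ← mul_assoc (ι j),
    ← mul_assoc, ← map_inv ι j', ← map_mul ι j] at o
  have e3 : j = j' := by
    have o' := odd_conj (ι ρ * (ι h * κ a * (ι h)⁻¹) * (ι ρ)⁻¹)⁻¹ o
    rw [show ∀ a b : G, a⁻¹ * (a * b * a⁻¹) * a⁻¹⁻¹ = b from fun a b => by group] at o'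
    have := eq_one_of_odd_sq o' (by rw [← map_mul, e.sq _ (mul_mem jF (inv_mem jF')), map_one])
    exact mul_inv_eq_one.1 (w.inj (this.trans (map_one ι).symm))
  refine ⟨mul_mem ha ha', ?_⟩
  have c5 : Commute (ι h * κ (h⁻¹ * ρ * h * a * (h⁻¹ * ρ * h)⁻¹) * (ι h)⁻¹) (ι j) :=
    ((cj hh).mul_left (k.cF _ ha'.1 j jF)).mul_left (cj hh).inv_left
  rw [nn, ← conj_mul (b := h), d.mul _ (hq ha) _ (hq ha'), j2, j4, ← e3, c5.symm.mul_mul_mul_comm, ← map_mul, e.sq j jF,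
    map_one, mul_one, conj_mul, d.mul _ (q.QS ha.2) _ (q.QS ha'.2), d.σF _ ha.1, d.σF _ ha'.1]

end QdA

/-- QDA2 -/
theorem q_eqv (k : Kap ι t Y F κ) (w : W ι t Y) (e : EA F) (d : DN ι t F κ S σ C1 p) (q : KQ F S Q z) {h : L}
    (hh : h * z = z * h) {x : L} (hx : x ∈ Q) : ι h * σ x * (ι h)⁻¹ = σ (h * x * h⁻¹) := by
  have hq : ∀ {v}, v ∈ Q → h * v * h⁻¹ ∈ S := fun hv => q.QS (conj_mem_of_mem_normalizer (q.nQ h hh) hv)
  let J : Subgroup L :=
    { carrier := {v | v ∈ Q ∧ ι h * σ v * (ι h)⁻¹ = σ (h * v * h⁻¹)}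
      one_mem' := ⟨one_mem _, by simp [d.toDB.one]⟩
      mul_mem' := fun a b => ⟨mul_mem a.1 b.1, by
        rw [d.mul _ (q.QS a.1) _ (q.QS b.1), ← conj_mul, ← conj_mul, a.2, b.2, d.mul _ (hq a.1) _ (hq b.1)]⟩
      inv_mem' := fun a => ⟨inv_mem a.1, by
        rw [d.toDB.inv (q.QS a.1), ← conj_inv, ← conj_inv, a.2, d.toDB.inv (hq a.1)]⟩ }
  refine (show x ∈ J from (closure_le J).2 ?_ (q.gen hx)).2
  rintro _ ⟨g, hg, v, hv, rfl⟩
  refine ⟨conj_mem_of_mem_normalizer (q.nQ g hg) hv.2, ?_⟩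
  rw [← step2 k w e d q hg hv, show h * (g * v * g⁻¹) * h⁻¹ = h * g * v * (h * g)⁻¹ by group,
    ← step2 k w e d q ((show Commute h z from hh).mul_left hg) hv, map_mul]
  group

end CfsgLib.WD
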