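import Mathlib
import Cfsg.Agent.Lib.WD.Cs
import Cfsg.Agent.Lib.WD.DblC
import Cfsg.Agent.Lib.WD.QdA

/-!
# Wreath doubling: fusion induced by the centraliser of `z`
-/

set_option autoImplicit false

namespace CfsgLib.WD

open Subgroup Cfsg CfsgLib.Tech CfsgLib.StdInt

variable {L G : Type*} [Group L] [Group G] [Finite G] {ι : L →* G} {t : G} {Y : Subgroup G} {F S Q : Subgroup L} {κ σ : L → G}
  {C1 : Subgroup G} {p : G → L} {z : L}

namespace QdB

open QdA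

/-- the elements of `C(z)` whose action on `σ Q` is induced by an element of `K` -/
def Gm (q : KQ F S Q z) (σ : L → G) (K : Subgroup G) : Subgroup L where
  carrier := {h | h * z = z * h ∧ ∃ g ∈ K, ∀ x ∈ Q, g * σ x * g⁻¹ = σ (h * x * h⁻¹)}
  one_mem' := ⟨by simp, 1, one_mem _, by simp⟩
  mul_mem' := fun {h h'} ⟨a, g, b, c⟩ ⟨a', g', b', c'⟩ =>
    ⟨(show Commute h z from a).mul_left a', g * g', mul_mem b b', fun x hx => by
      rw [show h * h' * x * (h * h')⁻¹ = h * (h' * x * h'⁻¹) * h⁻¹ by group,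
        ← c _ (conj_mem_of_mem_normalizer (q.nQ h' a') hx), ← c' x hx]
      group⟩
  inv_mem' := fun {h} ⟨a, g, b, c⟩ => ⟨(show Commute h z from a).inv_left, g⁻¹, inv_mem b, fun x hx => by
    have := c _ (conj_mem_of_mem_normalizer (inv_mem (q.nQ h a)) hx)
    rw [show h * (h⁻¹ * x * h⁻¹⁻¹) * h⁻¹ = x by group] at this
    rw [← this]; group⟩

omit [Finite G] in
theorem mem_c (d : DB ι t S σ) (w : W ι t Y) {X : Subgroup L} (hX : X ≤ S) {g : G} :
    g ∈ centralizer (F2 t σ X : Set G) ↔ ∀ s ∈ X, g * (t * σ s * t) = t * σ s * t * g :=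
  ⟨fun h s hs => (h _ ((d.mem_F2 w hX).2 ⟨s, hs, rfl⟩)).symm, fun h x hx => by
    obtain ⟨s, hs, rfl⟩ := (d.mem_F2 w hX).1 hx; exact (h s hs).symm⟩

omit [Finite G] in
theorem mem_c12 (d : DB ι t S σ) (w : W ι t Y) {X : Subgroup L} (hX : X ≤ S) {g : G} :
    g ∈ centralizer (F12 t σ X : Set G) ↔ ∀ s ∈ X, Commute g (σ s) ∧ Commute g (t * σ s * t) :=
  ⟨fun h s hs => ⟨(h _ (mem_sup_left (subset_closure ⟨s, hs, rfl⟩))).symm,
    (h _ (mem_sup_right (subset_closure ⟨s, hs, rfl⟩))).symm⟩, fun h x hx => by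
    obtain ⟨a, ha, b, hb, rfl⟩ := (d.mem_F12 w hX).1 hx
    exact ((h a ha).1.mul_right (h b hb).2).symm⟩

theorem all (k : Kap ι t Y F κ) (w : W ι t Y) (e : EA F) (d : DN ι t F κ S σ C1 p) (q : KQ F S Q z) {h : L}
    (hh : h * z = z * h) : h ∈ Gm q σ (centralizer (F2 t σ Q : Set G)) := by
  refine q.ncl (Gm q σ (centralizer (F2 t σ Q : Set G))) (fun m hm c => ?_) (fun h hh x hx => ?_) h hh
  · obtain ⟨g, a, b⟩ := d.h4d q.QS hm fun x hx => q.QS (conj_mem_of_mem_normalizer (q.nQ m c) hx)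
    exact ⟨c, g, (mem_c d.toDB w q.QS).2 fun s hs => d.c1 g a s (q.QS hs), b⟩
  obtain ⟨a, g, b, c⟩ := hx
  have hi : h⁻¹ * z = z * h⁻¹ := (show Commute h z from hh).inv_left
  have m : ∀ {r}, r ∈ Q → h⁻¹ * r * h⁻¹⁻¹ ∈ Q := conj_mem_of_mem_normalizer (q.nQ _ hi)
  have e1 : ∀ r ∈ Q, σ r = ι h * σ (h⁻¹ * r * h⁻¹⁻¹) * (ι h)⁻¹ := fun r hr => by
    rw [q_eqv k w e d q hh (m hr)]; congr 1; group
  refine ⟨((show Commute h z from hh).mul_left a).mul_left hi, ι h * g * (ι h)⁻¹,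
    (mem_c d.toDB w q.QS).2 fun r hr => ?_, fun r hr => ?_⟩
  · have c1 : Commute (ι h) t := (w.comm h).symm
    have : t * σ r * t = ι h * (t * σ (h⁻¹ * r * h⁻¹⁻¹) * t) * (ι h)⁻¹ := by
      rw [e1 r hr, ← mul_assoc t, ← mul_assoc t, ← c1.eq, mul_assoc _ _ t, c1.inv_left.eq]; group
    rw [this, conj_mul, conj_mul, (mem_c d.toDB w q.QS).1 b _ (m hr)]
  · rw [e1 r hr, show h * x * h⁻¹ * r * (h * x * h⁻¹)⁻¹ = h * (x * (h⁻¹ * r * h⁻¹⁻¹) * x⁻¹) * h⁻¹ by group,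
      ← q_eqv k w e d q hh (conj_mem_of_mem_normalizer (q.nQ x a) (m hr)), ← c _ (m hr)]
    group

theorem two_mem (k : Kap ι t Y F κ) (w : W ι t Y) (e : EA F) (d : DN ι t F κ S σ C1 p) (q : KQ F S Q z) :
    F12 t σ (zpowers z) ≤ centralizer (F12 t σ Q : Set G) ∧
      ∀ x ∈ centralizer (F12 t σ Q : Set G), Two x → x ∈ F12 t σ (zpowers z) := by
  have zS : zpowers z ≤ S := zpowers_le.2 (KQ.zS q)
  have zQ : zpowers z ≤ Q := zpowers_le.2 q.zQ
  have zF : zpowers z ≤ F := zpowers_le.2 q.zF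
  have D := d.toDB
  have le : F12 t σ (zpowers z) ≤ centralizer (F12 t σ Q : Set G) := fun x hx y hy => by
    obtain ⟨a, ha, b, hb, rfl⟩ := (D.mem_F12 w zS).1 hx
    obtain ⟨a', ha', b', hb', rfl⟩ := (D.mem_F12 w q.QS).1 hy
    have c : ∀ s ∈ Q, ∀ a ∈ zpowers z, s * a = a * s := by
      rintro s hs _ ⟨n, rfl⟩
      exact (show Commute s z from q.Sz s (q.QS hs)).zpow_right n
    rw [D.mul2 w (zS ha) (zS hb) (q.QS ha') (q.QS hb'), D.mul2 w (q.QS ha') (q.QS hb') (zS ha) (zS hb), c _ ha' _ ha,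
      c _ hb' _ hb]
  refine ⟨le, cs w.sq (mem_normalizer_of_forall fun x hx y hy => ?_) (D.t_norm w zS) le (D.two_F12 w d.two zS)
    (fun x hx y hy => ?_) (fun x hx h2 c => ?_) fun x hx h2 => ?_⟩
  · have := hx _ (conj_mem_of_mem_normalizer' (D.t_norm w q.QS) hy)
    calc _ = t * (t⁻¹ * y * t * x) * t⁻¹ := by group
      _ = _ := by rw [this]; group
  · obtain ⟨a, ha, b, hb, rfl⟩ := (D.mem_F12 w zS).1 hy
    exact (hx _ ((D.mem_F12 w q.QS).2 ⟨a, zQ ha, b, zQ hb, rfl⟩)).symm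
  · have hx := (mem_c12 D w q.QS).1 hx
    have c1 : ∀ r ∈ Q, Commute x (ι r) := fun r hr => D.diag r (q.QS hr) ▸ (hx r hr).1.mul_right (hx r hr).2
    have c2 : ∀ l, (∀ r ∈ Q, Commute (ι l) (ι r)) → l ∈ zpowers z := fun l h =>
      (q.cQ l fun r hr => w.inj (by rw [map_mul, map_mul, (h r hr).eq])).elim (· ▸ one_mem _) (· ▸ mem_zpowers _)
    obtain ⟨l, -, rfl | rfl⟩ := w.two c h2
    · exact (D.mem_F12 w zS).2 ⟨l, c2 l c1, l, c2 l c1, (D.diag l (zS (c2 l c1))).symm⟩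
    · have m := c2 l fun r hr => by
        simpa using (c1 r hr).mul_left (show Commute t (ι r) from w.comm r).inv_left
      have := (z1_Q d q (zS m)).inv_left.mul_left (d.σF z q.zF ▸ (hx z q.zQ).1)
      rw [inv_mul_cancel_left] at this
      exact absurd this (not_t k w q)
  · obtain ⟨a, ha, b, hb, rfl⟩ := (D.mem_F12 w zS).1 hx
    rw [← mul_assoc, D.swap w (zS ha) (zS hb), D.mul2 w (zS hb) (zS ha) (zS ha) (zS hb)] at h2
    obtain rfl := (eq_inv_of_mul_eq_one_left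
      (D.inj2 w d.two (mul_mem (zS hb) (zS ha)) (mul_mem (zS ha) (zS hb)) h2).1).trans (e.inv (zF ha))
    exact ⟨σ b, mem_sup_left (subset_closure ⟨b, hb, rfl⟩), by
      rw [D.conj_t w (zS hb) (e.sq b (zF hb)), D.diag b (zS hb)]⟩

theorem sq_mem (k : Kap ι t Y F κ) (w : W ι t Y) (e : EA F) (d : DN ι t F κ S σ C1 p) (q : KQ F S Q z) {h : L}
    (hh : h * z = z * h) : h * h ∈ Gm q σ (sqc ⊤ ⊓ centralizer (F2 t σ S : Set G)) := by
  have D := d.toDB
  obtain ⟨ZX, two⟩ := two_mem k w e d q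
  have zS : zpowers z ≤ S := zpowers_le.2 (KQ.zS q)
  set X := centralizer (F12 t σ Q : Set G)
  set Z := F12 t σ (zpowers z)
  have SQ : S ≤ normalizer (Q : Set L) := fun s hs => q.nQ s (q.Sz s hs)
  have nX : ∀ g ∈ normalizer (F12 t σ Q : Set G), ∀ x ∈ X, g * x * g⁻¹ ∈ X := fun g hg x hx y hy => by
    have := hx _ (conj_mem_of_mem_normalizer' hg hy)
    calc _ = g * (g⁻¹ * y * g * x) * g⁻¹ := by group
      _ = _ := by rw [this]; group
  have key : ∀ g, (∀ r ∈ Q, g * (t * σ r * t) = t * σ r * t * g) → (∀ x ∈ Q, g * σ x * g⁻¹ = σ (h * x * h⁻¹)) →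
      ∀ s ∈ S, g * (t * σ s * t) * g⁻¹ * (t * σ s * t)⁻¹ ∈ X := fun g a b s hs => by
    refine (mem_c12 D w q.QS).2 fun r hr => ⟨Commute.mul_left ?_ (Commute.inv_left (D.comm r (q.QS hr) s hs).symm), ?_⟩
    · have m := conj_mem_of_mem_normalizer' (q.nQ h hh) hr
      have := b _ m
      rw [show h * (h⁻¹ * r * h) * h⁻¹ = r by group] at this
      rw [← this]
      exact (show Commute _ _ from (D.comm _ (q.QS m) s hs).symm).map (MulAut.conj g)
    · have m := (D.le_norm w q.QS SQ).2.1 ((D.mem_F12 w le_rfl).2 ⟨1, one_mem _, s, hs, rfl⟩)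
      rw [D.one, one_mul] at m
      obtain ⟨r', hr', e1⟩ := (D.mem_F2 w q.QS).1
        (conj_mem_of_mem_normalizer' m ((D.mem_F2 w q.QS).2 ⟨r, hr, rfl⟩))
      have c1 := a r hr
      have c2 : Commute g⁻¹ _ := (show Commute g _ from a r' hr').inv_left
      rw [← e1] at c2
      generalize t * σ s * t = u at *
      generalize t * σ r * t = v at *
      calc g * u * g⁻¹ * u⁻¹ * v = g * u * (g⁻¹ * (u⁻¹ * v * u)) * u⁻¹ := by group
        _ = g * v * (u * g⁻¹ * u⁻¹) := by rw [c2.eq]; group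
        _ = _ := by rw [c1]; group
  obtain ⟨-, g, a, b⟩ := all k w e d q hh
  have a := (mem_c D w q.QS).1 a
  have FX : F2 t σ S ≤ normalizer (X : Set G) := fun x hx =>
    mem_normalizer_of_forall (nX x ((D.le_norm w q.QS SQ).2.2 (mem_sup_right hx)))
  have mU : ∀ {x}, x ∈ F2 t σ S ⊔ X → ∃ y ∈ F2 t σ S, ∃ u ∈ X, y * u = x := fun {x} hx => by
    rwa [← SetLike.mem_coe, coe_mul_of_left_le_normalizer_right _ _ FX] at hx
  have T2 : IsPGroup 2 (F2 t σ S ⊔ Z : Subgroup G) := (D.two_F12 w d.two le_rfl).to_le (sup_le le_sup_right fun x hx => by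
    obtain ⟨a, ha, b, hb, rfl⟩ := (D.mem_F12 w zS).1 hx
    exact (D.mem_F12 w le_rfl).2 ⟨a, zS ha, b, zS hb, rfl⟩)
  have hT : IsSylowIn 2 (F2 t σ S ⊔ Z) (F2 t σ S ⊔ X) :=
    isSylowIn_of_maximal T2 (sup_le_sup_left ZX _) fun R r1 r2 r3 x hx => by
      obtain ⟨y, hy, u, hu, rfl⟩ := mU (r3 hx)
      exact mul_mem (mem_sup_left hy) (mem_sup_right (two u hu (isPGroup_iff_mem.1 r1 u
        ((R.mul_mem_cancel_left (r2 (mem_sup_left hy))).1 hx))))
  have gn : g ∈ normalizer (F12 t σ Q : Set G) := mem_normalizer_of_forall fun x hx => by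
    obtain ⟨r, hr, r', hr', rfl⟩ := (D.mem_F12 w q.QS).1 hx
    rw [← conj_mul, b r hr, a r' hr', mul_inv_cancel_right]
    exact (D.mem_F12 w q.QS).2 ⟨_, conj_mem_of_mem_normalizer (q.nQ h hh) hr, r', hr', rfl⟩
  obtain ⟨n, hn, n1⟩ := hT.frattini (g := g) (mem_normalizer_of_forall fun x hx => by
    obtain ⟨y, hy, u, hu, rfl⟩ := mU hx
    rw [← conj_mul]
    refine mul_mem ?_ (mem_sup_right (nX g gn u hu))
    obtain ⟨s, hs, rfl⟩ := (D.mem_F2 w le_rfl).1 hy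
    simpa only [inv_mul_cancel_right] using mul_mem (mem_sup_right (key g a b s hs)) (mem_sup_left hy))
  obtain ⟨y, hy, u, hu, rfl⟩ := mU hn
  rw [mul_assoc, mul_mem_cancel_left (le_normalizer (mem_sup_left hy))] at n1
  have hu' := (mem_c12 D w q.QS).1 hu
  have a' : ∀ r ∈ Q, u * g * (t * σ r * t) = t * σ r * t * (u * g) := fun r hr => (hu' r hr).2.mul_left (a r hr)
  have b' : ∀ x ∈ Q, u * g * σ x * (u * g)⁻¹ = σ (h * x * h⁻¹) := fun x hx => by
    rw [show u * g * σ x * (u * g)⁻¹ = u * (g * σ x * g⁻¹) * u⁻¹ by group, b x hx,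
      (hu' _ (conj_mem_of_mem_normalizer (q.nQ h hh) hx)).1.eq, mul_inv_cancel_right]
  generalize u * g = g at n1 a' b'
  refine ⟨(show Commute h z from hh).mul_left hh, g * g, ⟨sq_mem_sqc trivial, (mem_c D w le_rfl).2 fun s hs => ?_⟩, fun x hx => ?_⟩
  · have m : t * σ s * t ∈ F2 t σ S ⊔ Z := mem_sup_left ((D.mem_F2 w le_rfl).2 ⟨s, hs, rfl⟩)
    obtain ⟨a, ha, b, hb, e1⟩ := (D.mem_F12 w zS).1 (two _ (key g a' b' s hs) (isPGroup_iff_mem.1 T2 _
      (mul_mem (conj_mem_of_mem_normalizer n1 m) (inv_mem m))))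
    have zQ : zpowers z ≤ Q := zpowers_le.2 q.zQ
    have zF : zpowers z ≤ F := zpowers_le.2 q.zF
    have c2 : g * (σ a * (t * σ b * t)) * g⁻¹ = σ a * (t * σ b * t) := by
      rw [← conj_mul, b' a (zQ ha), a' b (zQ hb), mul_inv_cancel_right]
      obtain ⟨n, rfl⟩ := ha
      rw [((show Commute h z from hh).zpow_right n).eq, mul_inv_cancel_right]
    have c3 := D.mul2 w (zS ha) (zS hb) (zS ha) (zS hb)
    rw [e.sq a (zF ha), e.sq b (zF hb), D.one, mul_one, w.sq, mul_one] at c3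
    have e2 := mul_inv_eq_iff_eq_mul.1 e1
    refine mul_inv_eq_iff_eq_mul.1 ?_
    rw [show g * g * (t * σ s * t) * (g * g)⁻¹ = g * (g * (t * σ s * t) * g⁻¹) * g⁻¹ by group, e2, ← conj_mul, c2, e2,
      ← mul_assoc, c3, one_mul]
  · rw [show h * h * x * (h * h)⁻¹ = h * (h * x * h⁻¹) * h⁻¹ by group,
      ← b' _ (conj_mem_of_mem_normalizer (q.nQ h hh) hx), ← b' x hx]
    group

end QdB

open QdB in
/-- QDB -/
theorem q_fus (k : Kap ι t Y F κ) (w : W ι t Y) (e : EA F) (d : DN ι t F κ S σ C1 p) (q : KQ F S Q z) {x : L}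
    (hx : x ∈ Q) (h2 : x * x = 1) : ∃ g ∈ sqc (⊤ : Subgroup G),
      (∀ s ∈ S, g * (t * σ s * t) = t * σ s * t * g) ∧ ∃ v ∈ F, g * σ x * g⁻¹ = σ v := by
  have := Finite.of_injective _ w.inj
  obtain ⟨h, hh, m⟩ := q.inv x hx h2
  obtain ⟨s, hs, h0, k0, rfl⟩ := exists_syl_mul (q.syl.of_le (K := centralizer {z})
    (fun s hs => mem_centralizer_singleton_iff.2 (q.Sz s hs)) le_top) (mem_centralizer_singleton_iff.2 hh)
  obtain ⟨-, g, g1, g2⟩ : h0 ∈ Gm q σ (sqc ⊤ ⊓ centralizer (F2 t σ S : Set G)) := (closure_le _).2 (by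
    rintro _ ⟨h, hh, rfl⟩
    exact sq_mem k w e d q (mem_centralizer_singleton_iff.1 hh)) k0
  refine ⟨g, g1.1, (mem_c d.toDB w le_rfl).1 g1.2, _, ?_, g2 x hx⟩
  have := conj_mem_of_mem_normalizer' (d.SN hs) m
  rwa [show s⁻¹ * (s * h0 * x * (s * h0)⁻¹) * s = h0 * x * h0⁻¹ by group] at this

end CfsgLib.WD
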