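import Mathlib
import Cfsg.Agent.Lib.WD.KapJ
import Cfsg.Agent.Lib.WD.JkB
import Cfsg.Agent.Lib.WD.JkC
import Cfsg.Agent.Lib.WD.JkG
import Cfsg.Agent.Lib.WD.Mov
import Cfsg.Agent.Lib.WD.Cov
import Cfsg.Agent.Lib.WD.DblB
import Cfsg.Agent.Lib.WD.DblC
import Cfsg.Agent.Lib.WD.QdB
import Cfsg.Agent.Lib.WD.End
import Cfsg.Agent.Lib.WD.Red

/-!
# Wreath doubling: the case `J4`
-/

set_option autoImplicit false

namespace CfsgLib.WD

open Subgroup Cfsg CfsgLib.Tech CfsgLib.StdInt CfsgLib.J4T CfsgLib.Golay CfsgLib.M24E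
open scoped Pointwise

variable {L G : Type*} [Group L] [Group G] [Finite G] {ι : L →* G} {t : G} {Y : Subgroup G} {z : L} {j : JM z}

theorem topJ (w : W ι t Y) (hj : j.Good) {E0 : Subgroup G} (as : AS E0) : False := by
  have : Finite L := Finite.of_injective _ w.inj
  have e := j_ea hj
  have ko := j_ko hj
  obtain ⟨h1, h2⟩ := mov w ko ko noOrb_1772 noOrb_277 (j_inv hj)
    (fun X a b => (j_cal hj X a b).imp fun _ h => Or.inl h) (Or.inl rfl)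
  obtain ⟨u, uN, u11, fix, c11⟩ := j_cj11 hj
  obtain ⟨b, hb⟩ := mov11 w e ko.card h1 h2 uN u11 (j_kh hj).dF (j_kh hj).dne fix c11
  obtain ⟨κ, k⟩ := kapJ w hj hb
  obtain ⟨d, l, ky⟩ := j_ky hj
  have cv := (cov k w ky (Or.inl (j_nof hj))).2
  obtain ⟨S, hS, s1, s2, s3, s4⟩ := j_syl hj
  have hF : j.V ≠ ⊥ := fun h => (j_kh hj).dne (by simpa [h] using (j_kh hj).dF)
  obtain ⟨σ, C1, p, dn⟩ := dbl k w e hF cv (j_perf hj) (j_fpf hj) s1 s3 hS.pgroup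
  have sq : ∀ g ∈ C1, g ∈ sqc (⊤ : Subgroup G) := fun g hg => sqc_mono le_top (dn.le_sqc (j_perf hj) hg)
  refine fin w dn.toDB (j_ke hj hS s1 s2 s3 s4) ⟨dn.h3 (j_perf hj), fun s hs ss => ?_, fun a ha b hb a1 b1 h => ?_⟩ as
  · obtain ⟨m, hm, h⟩ := j_invM hj (s3 hs) ss
    obtain ⟨g, hg, e1⟩ := dn.h4e hs hm (h.elim (fun h => s1 h) fun h => s2 h)
    rcases h with h | h
    · exact ⟨g, sq g hg, dn.c1 g hg, _, h, e1⟩
    · obtain ⟨g', hg', c', v, hv, e2⟩ := q_fus k w e dn (j_kq hj hS s2 s4) h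
        (by rw [conj_mul, ss, mul_one, mul_inv_cancel])
      refine ⟨g' * g, mul_mem hg' (sq g hg), fun x hx => ?_, v, hv, ?_⟩
      · rw [mul_assoc g', dn.c1 g hg x hx, ← mul_assoc g', c' x hx, mul_assoc _ g']
      · rw [← e2, ← e1]; group
  · obtain ⟨m, hm, e1⟩ := ko.tr a ha b hb a1 b1 h
    obtain ⟨g, hg, e2⟩ := dn.h4d s1 hm fun x hx => s1 (conj_mem_of_mem_normalizer hm hx)
    exact ⟨g, sq g hg, by rw [e2 a ha, e1], fun x hx => ⟨_, conj_mem_of_mem_normalizer hm hx, e2 x hx⟩,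
      fun x hx => dn.c1 g hg x (s1 hx)⟩

end CfsgLib.WD
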